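import Mathlib
import Groth.Prelude.Def_W4c4cptpiccptjacBI

/-! Edgewise sum formulas for multidegrees and the basic inequality on a multigraph. -/

set_option autoImplicit false

universe u

namespace Groth.Agent.LabGraphLead

open LabGraph Finset

variable {V E : Type u} [Fintype V] [Fintype E] [DecidableEq V] [DecidableEq E]

/-- Indicator of a vertex set. -/
def ind (Y : Finset V) (v : V) : ℤ := if v ∈ Y then 1 else 0

lemma ind_sq_cut (ends : E → V × V) (Y : Finset V) :
    (cut ends Y : ℤ) = ∑ e, (ind Y (ends e).1 - ind Y (ends e).2) ^ 2 := by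
  rw [cut, Finset.natCast_card_filter]
  refine Finset.sum_congr rfl fun e _ => ?_
  by_cases h1 : (ends e).1 ∈ Y <;> by_cases h2 : (ends e).2 ∈ Y <;> simp [ind, h1, h2]

lemma cut_compl (ends : E → V × V) (Y : Finset V) : cut ends Yᶜ = cut ends Y := by
  rw [cut, cut]
  congr 1
  ext e
  simp only [mem_filter, mem_univ, true_and, mem_compl]
  tauto

lemma twist_pairing (ends : E → V × V) (f φ : V → ℤ) :
    ∑ v, f v * twist ends φ v = -∑ e, (f (ends e).1 - f (ends e).2) * (φ (ends e).1 - φ (ends e).2) := by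
  simp only [twist, Finset.mul_sum]
  rw [Finset.sum_comm, ← Finset.sum_neg_distrib]
  refine Finset.sum_congr rfl fun e _ => ?_
  simp only [mul_add, mul_ite, mul_zero, Finset.sum_add_distrib, Finset.sum_ite_eq, Finset.mem_univ, if_true]
  ring

lemma sum_twist (ends : E → V × V) (φ : V → ℤ) (Y : Finset V) :
    ∑ v ∈ Y, twist ends φ v = -∑ e, (ind Y (ends e).1 - ind Y (ends e).2) * (φ (ends e).1 - φ (ends e).2) := by
  rw [← twist_pairing]
  simp [ind, Finset.sum_ite_mem]

lemma sum_twist_univ (ends : E → V × V) (φ : V → ℤ) : ∑ v, twist ends φ v = 0 := by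
  simpa [ind] using sum_twist ends φ Finset.univ

lemma canDeg_univ (ends : E → V × V) (w : V → ℕ) : canDeg ends w univ = 2 * genus ends w - 2 := by
  simp only [canDeg, genus, endCount, Nat.cast_sum, Nat.cast_add, Nat.cast_ite, Nat.cast_one, Nat.cast_zero]
  rw [Finset.sum_add_distrib, Finset.sum_sub_distrib, Finset.sum_comm]
  simp [Finset.sum_add_distrib, ← Finset.mul_sum]
  ring

lemma eq_of_forall_edge {α : Type*} {ends : E → V × V} (hc : Connected ends) (φ : V → α)
    (h : ∀ e, φ (ends e).1 = φ (ends e).2) (v w : V) : φ v = φ w := by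
  induction hc.2 v w with
  | refl => rfl
  | tail _ hb ih =>
    obtain ⟨e, he | he⟩ := hb
    · have := h e; rw [he] at this; exact ih.trans this
    · have := h e; rw [he] at this; exact ih.trans this.symm

lemma abs_sub_le_sum {ends : E → V × V} (hc : Connected ends) (φ : V → ℤ) (v w : V) :
    |φ v - φ w| ≤ ∑ e, |φ (ends e).1 - φ (ends e).2| := by
  classical
  -- the level sets between the two values all separate some edge
  wlog hvw : φ w ≤ φ v generalizing v w
  · rw [abs_sub_comm]; exact this w v (le_of_not_ge hvw)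
  rw [abs_of_nonneg (by omega)]
  have hsub : Finset.Ico (φ w) (φ v) ⊆
      univ.biUnion (fun e => Finset.Ico (min (φ (ends e).1) (φ (ends e).2)) (max (φ (ends e).1) (φ (ends e).2))) := by
    intro t ht
    rw [Finset.mem_Ico] at ht
    by_contra hne
    simp only [mem_biUnion, mem_univ, true_and, Finset.mem_Ico, not_exists] at hne
    have := eq_of_forall_edge hc (fun x => decide (φ x ≤ t)) (fun e => by
      have := hne e
      simp only [decide_eq_decide]
      constructor <;> intro <;> omega) v w
    simp only [decide_eq_decide] at this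
    omega
  have h1 := (Finset.card_le_card hsub).trans Finset.card_biUnion_le
  have h2 : ((Finset.Ico (φ w) (φ v)).card : ℤ) ≤
      ∑ e, ((Finset.Ico (min (φ (ends e).1) (φ (ends e).2)) (max (φ (ends e).1) (φ (ends e).2))).card : ℤ) := by
    exact_mod_cast h1
  simp only [Int.card_Ico] at h2
  rw [Int.toNat_of_nonneg (by omega)] at h2
  refine h2.trans (Finset.sum_le_sum fun e _ => ?_)
  rw [Int.toNat_of_nonneg (by omega)]
  rcases abs_cases (φ (ends e).1 - φ (ends e).2) with h | h <;> omega

variable (ends : E → V × V) (w : V → ℕ)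

/-- Twice the signed excess of a multidegree on a vertex set, times `2g-2`. -/
def excess (d : V → ℤ) (Y : Finset V) : ℤ :=
  2 * (canDeg ends w univ * (∑ v ∈ Y, d v) - (∑ v, d v) * canDeg ends w Y)

lemma excess_compl (d : V → ℤ) (Y : Finset V) : excess ends w d Yᶜ = -excess ends w d Y := by
  have h1 := Finset.sum_add_sum_compl Y d
  have h2 : canDeg ends w Y + canDeg ends w Yᶜ = canDeg ends w univ :=
    Finset.sum_add_sum_compl Y _
  simp only [excess]
  linear_combination 2 * (canDeg ends w univ) * h1 - 2 * (∑ v, d v) * h2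

lemma excess_union_inter (d : V → ℤ) (Y Z : Finset V) :
    excess ends w d (Y ∪ Z) + excess ends w d (Y ∩ Z) = excess ends w d Y + excess ends w d Z := by
  have h1 := Finset.sum_union_inter (s₁ := Y) (s₂ := Z) (f := d)
  have h2 : canDeg ends w (Y ∪ Z) + canDeg ends w (Y ∩ Z) = canDeg ends w Y + canDeg ends w Z :=
    Finset.sum_union_inter
  simp only [excess]
  linear_combination 2 * (canDeg ends w univ) * h1 - 2 * (∑ v, d v) * h2

lemma excess_add_twist (d φ : V → ℤ) (Y : Finset V) :
    excess ends w (fun v => d v + twist ends φ v) Y =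
      excess ends w d Y + 2 * canDeg ends w univ * ∑ v ∈ Y, twist ends φ v := by
  simp only [excess, Finset.sum_add_distrib, sum_twist_univ]
  ring

lemma satisfiesBI_iff (d : V → ℤ) :
    SatisfiesBI ends w d ↔ ∀ Y, excess ends w d Y ≤ cut ends Y * canDeg ends w univ := by
  constructor
  · intro h Y
    exact le_trans (mul_le_mul_of_nonneg_left (le_abs_self _) (by norm_num)) (h Y)
  · intro h Y
    have h1 := h Y
    have h2 := h Yᶜ
    rw [excess_compl, cut_compl] at h2
    simp only [excess] at h1 h2
    rcases abs_cases (canDeg ends w univ * (∑ v ∈ Y, d v) - (∑ v : V, d v) * canDeg ends w Y) with ⟨h3, -⟩ | ⟨h3, -⟩ <;>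
      rw [h3] <;> linarith

/-- The two edges at an exceptional vertex. -/
lemma exists_two_edges {v : V} (hv : IsExceptional ends w v) :
    ∃ e₁ e₂ : E, e₁ ≠ e₂ ∧ ∀ e : E, ((ends e).1 = v ∨ (ends e).2 = v) ↔ (e = e₁ ∨ e = e₂) := by
  obtain ⟨-, hloop, hcut⟩ := hv
  obtain ⟨e₁, e₂, hne, heq⟩ := Finset.card_eq_two.1 hcut
  refine ⟨e₁, e₂, hne, fun e => ?_⟩
  have := congrArg (e ∈ ·) heq
  simp only [mem_filter, mem_univ, true_and, mem_singleton, mem_insert, eq_iff_iff] at this
  rw [← this]
  constructor
  · rintro (h | h)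
    · exact Or.inl ⟨h, fun h' => hloop e (Prod.ext h h')⟩
    · exact Or.inr ⟨fun h' => hloop e (Prod.ext h' h), h⟩
  · rintro (⟨h, -⟩ | ⟨-, h⟩)
    · exact Or.inl h
    · exact Or.inr h

lemma canDeg_exceptional {v : V} (hv : IsExceptional ends w v) : canDeg ends w {v} = 0 := by
  obtain ⟨hw, hloop, hcut⟩ := hv
  have : (endCount ends univ v : ℤ) = 2 := by
    rw [show (2 : ℤ) = ((cut ends {v} : ℕ) : ℤ) by simp [hcut], ind_sq_cut]
    simp only [endCount, Nat.cast_sum, Nat.cast_add, Nat.cast_ite, Nat.cast_one, Nat.cast_zero]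
    refine Finset.sum_congr rfl fun e _ => ?_
    by_cases h1 : (ends e).1 = v <;> by_cases h2 : (ends e).2 = v <;> simp [ind, h1, h2]
    exact hloop e (Prod.ext h1 h2)
  simp [canDeg, hw, this]

end Groth.Agent.LabGraphLead
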