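import Groth.Prelude.Def_W4c1nerontoraddGraph
import Mathlib

/-! Multidegrees on the total blow-up of a labelled multigraph. -/

set_option autoImplicit false

universe u

namespace Groth.Agent.LabGraphLead

open LabGraph Finset

variable {V E : Type u} [Fintype V] [Fintype E] [DecidableEq V] [DecidableEq E] (ends : E → V × V) (l : E → ℕ)

/-- Values of a labelling along the path replacing an edge. -/
def pathVal (ψ : BlVert V E l → ℤ) (e : E) (j : ℕ) : ℤ := ψ (pathVert ends l e j)

lemma pathVal_zero (ψ : BlVert V E l → ℤ) (e : E) : pathVal ends l ψ e 0 = ψ (.inl (ends e).1) := by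
  simp [pathVal, pathVert]

lemma pathVal_end (ψ : BlVert V E l → ℤ) {e : E} (h : 0 < l e) :
    pathVal ends l ψ e (l e) = ψ (.inl (ends e).2) := by
  simp [pathVal, pathVert, h.ne']

lemma mdeg_inl (hl : ∀ e, 0 < l e) (ψ : BlVert V E l → ℤ) (v : V) :
    mdeg (blEnds ends l) (fun _ => 1) ψ (.inl v) = ∑ e,
      ((if (ends e).1 = v then pathVal ends l ψ e 1 - pathVal ends l ψ e 0 else 0) +
       (if (ends e).2 = v then pathVal ends l ψ e (l e - 1) - pathVal ends l ψ e (l e) else 0)) := by
  simp only [mdeg, blEnds, Nat.cast_one, Int.ediv_one]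
  rw [Fintype.sum_sigma]
  · refine Finset.sum_congr rfl fun e _ => ?_
    have hp := hl e
    rw [Finset.sum_add_distrib, Finset.sum_eq_single (⟨0, hp⟩ : Fin (l e)),
      Finset.sum_eq_single (⟨l e - 1, by omega⟩ : Fin (l e))]
    · have h1 : pathVert ends l e 0 = Sum.inl (ends e).1 := by simp [pathVert]
      have h2 : pathVert ends l e (l e - 1 + 1) = Sum.inl (ends e).2 := by
        rw [Nat.sub_add_cancel hp]; simp [pathVert, hp.ne']
      simp only [h1, h2, Sum.inl.injEq, pathVal, zero_add, Nat.sub_add_cancel (show 1 ≤ l e from hp)]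
      have h3 : pathVert ends l e (l e) = Sum.inl (ends e).2 := by simp [pathVert, hp.ne']
      simp only [h3, Sum.inl.injEq]
    · intro k _ hk
      rw [if_neg]
      have hne : (k : ℕ) ≠ l e - 1 := fun h => hk (Fin.ext h)
      have := k.isLt
      simp [pathVert, show (k : ℕ) + 1 < l e by omega]
    · simp
    · intro k _ hk
      rw [if_neg]
      have hne : (k : ℕ) ≠ 0 := fun h => hk (Fin.ext h)
      simp [pathVert, hne]
    · simp

lemma mdeg_inr (hl : ∀ e, 0 < l e) (ψ : BlVert V E l → ℤ) (e₀ : E) (t : Fin (l e₀ - 1)) :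
    mdeg (blEnds ends l) (fun _ => 1) ψ (.inr ⟨e₀, t⟩) =
      pathVal ends l ψ e₀ ((t : ℕ) + 2) - 2 * pathVal ends l ψ e₀ ((t : ℕ) + 1) + pathVal ends l ψ e₀ t := by
  have ht := t.isLt
  have hpv : ∀ (e : E) (j : ℕ), j ≤ l e → (pathVert ends l e j = .inr ⟨e₀, t⟩ ↔ e = e₀ ∧ j = (t : ℕ) + 1) := by
    intro e j hj
    unfold pathVert
    split_ifs with h0 h
    · simp; intro; omega
    · constructor
      · intro he
        simp only [Sum.inr.injEq, Sigma.mk.injEq] at he
        obtain ⟨rfl, he⟩ := he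
        simp only [heq_eq_eq, Fin.ext_iff] at he
        exact ⟨rfl, by omega⟩
      · rintro ⟨rfl, rfl⟩
        simp
    · simp
      intro he
      subst he
      omega
  simp only [mdeg, blEnds, Nat.cast_one, Int.ediv_one]
  rw [Fintype.sum_sigma]
  rw [Finset.sum_eq_single e₀]
  · rw [Finset.sum_add_distrib, Finset.sum_eq_single (⟨(t : ℕ) + 1, by omega⟩ : Fin (l e₀)),
      Finset.sum_eq_single (⟨(t : ℕ), by omega⟩ : Fin (l e₀))]
    · rw [if_pos ((hpv e₀ _ (by simp; omega)).2 ⟨rfl, rfl⟩), if_pos ((hpv e₀ _ (by simp; omega)).2 ⟨rfl, rfl⟩)]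
      simp only [pathVal]
      ring_nf
    · intro k _ hk
      rw [if_neg]
      rw [hpv e₀ _ k.isLt]
      rintro ⟨-, h⟩
      exact hk (Fin.ext (by simp at h ⊢; omega))
    · simp
    · intro k _ hk
      rw [if_neg]
      rw [hpv e₀ _ k.isLt.le]
      rintro ⟨-, h⟩
      exact hk (Fin.ext (by simpa using h))
    · simp
  · intro e _ he
    refine Finset.sum_eq_zero fun k _ => ?_
    rw [if_neg (fun h => he ((hpv e _ k.isLt.le).1 h).1), if_neg (fun h => he ((hpv e _ k.isLt).1 h).1), add_zero]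
  · simp

/-- Deviation from linearity forced by prescribed second differences. -/
def dev (u : ℕ → ℤ) : ℕ → ℤ
  | 0 => 0
  | 1 => 0
  | n + 2 => 2 * dev u (n + 1) - dev u n + u n

lemma eq_linear_add_dev (u P : ℕ → ℤ) (N : ℕ) (h : ∀ n, n + 2 ≤ N → P (n + 2) - 2 * P (n + 1) + P n = u n) :
    ∀ n, n ≤ N → P n = P 0 + n * (P 1 - P 0) + dev u n := by
  intro n
  induction n using Nat.strong_induction_on with
  | h n ih =>
    intro hn
    match n with
    | 0 => simp [dev]
    | 1 => simp [dev]
    | k + 2 =>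
      have h1 := h k hn
      rw [ih k (by omega) (by omega), ih (k + 1) (by omega) (by omega)] at h1
      simp only [dev]
      push_cast at h1 ⊢
      linarith

end Groth.Agent.LabGraphLead
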