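import Groth.Prelude.Def_W4c2conddiscmodels
import Mathlib

/-! Contraction of a connecting chain in a multigraph with multiplicity function. -/

set_option autoImplicit false

universe u

namespace Groth.Agent.LabGraphLead

open LabGraph Finset DualGr

variable {V E : Type u} [Fintype V] [Fintype E] [DecidableEq V] [DecidableEq E]

/-- Contribution of an edge to the sum of `x` over the proper neighbours of `v`. -/
def nbTerm (ends : E → V × V) (x : V → ℤ) (v : V) (e : E) : ℤ :=
  (if (ends e).1 = v ∧ (ends e).2 ≠ v then x (ends e).2 else 0) +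
    (if (ends e).2 = v ∧ (ends e).1 ≠ v then x (ends e).1 else 0)

/-- Sum of `x` over the proper neighbours of `v`, with multiplicity. -/
def nb (ends : E → V × V) (x : V → ℤ) (v : V) : ℤ := ∑ e, nbTerm ends x v e

lemma nb_eq (ends : E → V × V) (x : V → ℤ) (v : V) :
    ∑ w ∈ univ.erase v, x w * (edgeMult ends v w : ℤ) = nb ends x v := by
  simp only [edgeMult, Finset.natCast_card_filter, Finset.mul_sum, nb]
  rw [Finset.sum_comm]
  refine Finset.sum_congr rfl fun e _ => ?_
  obtain ⟨a, b, hab⟩ : ∃ a b, ends e = (a, b) := ⟨_, _, rfl⟩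
  simp only [nbTerm, hab, Prod.mk.injEq, mul_ite, mul_one, mul_zero]
  by_cases ha : a = v <;> by_cases hb : b = v
  · subst ha hb
    refine (Finset.sum_eq_zero fun w hw => ?_).trans (by simp)
    rw [Finset.mem_erase] at hw
    simp [Ne.symm hw.1]
  · subst ha
    rw [Finset.sum_eq_single b (fun w _ hw => by simp [Ne.symm hw, hb]) (fun h => absurd (Finset.mem_erase.2 ⟨hb, Finset.mem_univ _⟩) h)]
    simp [hb]
  · subst hb
    rw [Finset.sum_eq_single a (fun w _ hw => by simp [Ne.symm hw, ha]) (fun h => absurd (Finset.mem_erase.2 ⟨ha, Finset.mem_univ _⟩) h)]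
    simp [ha]
  · refine (Finset.sum_eq_zero fun w _ => ?_).trans (by simp [ha, hb])
    simp [ha, hb]

lemma diag_mul (ends : E → V × V) (β : V → ℤ) (hβ : IsMultFn ends β) (v : V) :
    mfMatrix ends β v v * β v = -nb ends β v := by
  rw [mfMatrix, if_pos rfl, ← nb_eq]
  exact Int.ediv_mul_cancel ((hβ v).2.neg_right)

lemma mulVec_eq (ends : E → V × V) (β x : V → ℤ) (v : V) :
    (mfMatrix ends β).mulVec x v = mfMatrix ends β v v * x v + nb ends x v := by
  rw [Matrix.mulVec, dotProduct, ← Finset.add_sum_erase _ _ (Finset.mem_univ v), ← nb_eq]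
  refine congrArg _ (Finset.sum_congr rfl fun w hw => ?_)
  rw [Finset.mem_erase] at hw
  rw [mfMatrix, if_neg (Ne.symm hw.1), mul_comm]

lemma sum_mul_nb (ends : E → V × V) (g x : V → ℤ) :
    ∑ v, g v * nb ends x v = ∑ d : E,
      if (ends d).1 = (ends d).2 then 0 else g (ends d).1 * x (ends d).2 + g (ends d).2 * x (ends d).1 := by
  simp only [nb, Finset.mul_sum]
  rw [Finset.sum_comm]
  refine Finset.sum_congr rfl fun d _ => ?_
  simp only [nbTerm, mul_add, mul_ite, mul_zero, Finset.sum_add_distrib, ite_and, Finset.sum_ite_eq,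
    Finset.mem_univ, if_true]
  by_cases h : (ends d).1 = (ends d).2
  · simp [h]
  · simp [h, Ne.symm h]

lemma sum_beta_mulVec (ends : E → V × V) (β : V → ℤ) (hβ : IsMultFn ends β) (x : V → ℤ) :
    ∑ v, (mfMatrix ends β).mulVec x v * β v = 0 := by
  have h1 : ∀ v, (mfMatrix ends β).mulVec x v * β v = -(x v * nb ends β v) + β v * nb ends x v := by
    intro v
    rw [mulVec_eq, add_mul, mul_right_comm, diag_mul ends β hβ]
    ring
  simp only [h1, Finset.sum_add_distrib, Finset.sum_neg_distrib, sum_mul_nb]
  rw [neg_add_eq_zero]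
  refine Finset.sum_congr rfl fun d _ => ?_
  split <;> ring

section chain

variable {ends : E → V × V} {β : V → ℤ} {m : ℕ} {f : Fin (m + 1) → V} {e : Fin m → E}

/-- The image of a chain is a single class of the contraction. -/
lemma ctrMk_f_eq (hC : IsChain ends f e) (i : Fin (m + 1)) :
    ctrMk ends (univ.image e) (f i) = ctrMk ends (univ.image e) (f 0) := by
  induction i using Fin.induction with
  | zero => rfl
  | succ i ih =>
    rw [← ih]
    have h := ctrMk_fst_eq_ctrMk_snd ends (univ.image e) (Finset.mem_image_of_mem e (Finset.mem_univ i))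
    rcases hC.2.2 i with h' | h' <;> rw [h'] at h
    · exact h.symm
    · exact h

/-- Collapse the chain to its first vertex. -/
def collapse (f : Fin (m + 1) → V) (x : V) : V := if x ∈ univ.image f then f 0 else x

lemma collapse_eq_of_ctrMk_eq (hC : IsChain ends f e) {a b : V}
    (h : ctrMk ends (univ.image e) a = ctrMk ends (univ.image e) b) : collapse f a = collapse f b := by
  have h' : Relation.EqvGen (CtrRel ends (univ.image e)) a b := Quotient.exact (s := ctrSetoid ends (univ.image e)) h
  clear h
  induction h' with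
  | rel a b hab =>
    obtain ⟨d, hd, hab⟩ := hab
    obtain ⟨i, -, rfl⟩ := Finset.mem_image.1 hd
    rcases hC.2.2 i with h | h <;> rw [h, Prod.mk.injEq] at hab <;> obtain ⟨rfl, rfl⟩ := hab <;>
      simp [collapse]
  | refl a => rfl
  | symm a b _ ih => exact ih.symm
  | trans a b c _ _ i1 i2 => exact i1.trans i2

lemma ctrMk_eq_iff_notMem (hC : IsChain ends f e) {v : V} (hv : v ∉ univ.image f) (a : V) :
    ctrMk ends (univ.image e) a = ctrMk ends (univ.image e) v ↔ a = v := by
  refine ⟨fun h => ?_, fun h => h ▸ rfl⟩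
  have := collapse_eq_of_ctrMk_eq hC h
  rw [collapse, collapse, if_neg hv] at this
  split at this
  · exact absurd (this ▸ Finset.mem_image_of_mem f (Finset.mem_univ 0)) hv
  · exact this

lemma ctrMk_eq_f0_iff (hC : IsChain ends f e) (a : V) :
    ctrMk ends (univ.image e) a = ctrMk ends (univ.image e) (f 0) ↔ a ∈ univ.image f := by
  constructor
  · intro h
    by_contra ha
    exact ha ((ctrMk_eq_iff_notMem hC ha (f 0)).1 h.symm ▸ Finset.mem_image_of_mem f (Finset.mem_univ 0))
  · intro h
    obtain ⟨i, -, rfl⟩ := Finset.mem_image.1 h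
    exact ctrMk_f_eq hC i

lemma ctrFn_ctrMk (hC : IsChain ends f e) (hconst : ∀ i j, β (f i) = β (f j)) (v : V) :
    ctrFn ends (univ.image e) β (ctrMk ends (univ.image e) v) = β v := by
  show β (Quotient.out (s := ctrSetoid ends (univ.image e)) (ctrMk ends (univ.image e) v)) = β v
  have h : ctrMk ends (univ.image e) (Quotient.out (s := ctrSetoid ends (univ.image e)) (ctrMk ends (univ.image e) v)) = ctrMk ends (univ.image e) v := Quotient.out_eq _
  by_cases hv : v ∈ univ.image f
  · have := (ctrMk_eq_f0_iff hC _).1 (h.trans ((ctrMk_eq_f0_iff hC v).2 hv))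
    obtain ⟨i, -, hi⟩ := Finset.mem_image.1 this
    obtain ⟨j, -, rfl⟩ := Finset.mem_image.1 hv
    rw [← hi]; exact hconst i j
  · rw [(ctrMk_eq_iff_notMem hC hv _).1 h]

/-- Edges inside the chain's vertex set, counted at both ends. -/
def inner (ends : E → V × V) (f : Fin (m + 1) → V) : ℤ :=
  ∑ d : E, if (ends d).1 ∈ univ.image f ∧ (ends d).2 ∈ univ.image f ∧ (ends d).1 ≠ (ends d).2 then 2 else 0

lemma nb_ctr (hC : IsChain ends f e) (y : CtrVert ends (univ.image e) → ℤ) (c : CtrVert ends (univ.image e)) :
    nb (ctrEnds ends (univ.image e)) y c = ∑ d : E,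
      ((if ctrMk ends (univ.image e) (ends d).1 = c ∧ ctrMk ends (univ.image e) (ends d).2 ≠ c then
          y (ctrMk ends (univ.image e) (ends d).2) else 0) +
       (if ctrMk ends (univ.image e) (ends d).2 = c ∧ ctrMk ends (univ.image e) (ends d).1 ≠ c then
          y (ctrMk ends (univ.image e) (ends d).1) else 0)) := by
  rw [← Finset.sum_filter_add_sum_filter_not univ (fun d => d ∈ univ.image e),
    Finset.sum_eq_zero (s := univ.filter _) (fun d hd => ?_), zero_add]
  · rw [Finset.sum_subtype (univ.filter fun d => d ∉ univ.image e) (p := fun d => d ∉ univ.image e) (by simp)]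
    rfl
  · rw [ctrMk_fst_eq_ctrMk_snd ends _ (Finset.mem_filter.1 hd).2]
    simp

lemma nb_comp_notMem (hC : IsChain ends f e) (y : CtrVert ends (univ.image e) → ℤ) {v : V}
    (hv : v ∉ univ.image f) :
    nb ends (fun x => y (ctrMk ends (univ.image e) x)) v =
      nb (ctrEnds ends (univ.image e)) y (ctrMk ends (univ.image e) v) := by
  rw [nb_ctr hC]
  refine Finset.sum_congr rfl fun d _ => ?_
  simp only [nbTerm, ne_eq, ctrMk_eq_iff_notMem hC hv]

lemma nb_comp_sum (hC : IsChain ends f e) (y : CtrVert ends (univ.image e) → ℤ) :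
    ∑ i, nb ends (fun x => y (ctrMk ends (univ.image e) x)) (f i) =
      nb (ctrEnds ends (univ.image e)) y (ctrMk ends (univ.image e) (f 0)) +
        inner ends f * y (ctrMk ends (univ.image e) (f 0)) := by
  rw [← Finset.sum_image (f := nb ends fun x => y (ctrMk ends (univ.image e) x))
    (fun a _ b _ h => hC.1 h), nb_ctr hC, inner, Finset.sum_mul, ← Finset.sum_add_distrib]
  simp only [nb]
  rw [Finset.sum_comm]
  refine Finset.sum_congr rfl fun d _ => ?_
  simp only [nbTerm, Finset.sum_add_distrib, ite_and, Finset.sum_ite_eq, ne_eq, ctrMk_eq_f0_iff hC, ite_mul, zero_mul]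
  by_cases ha : (ends d).1 ∈ univ.image f <;> by_cases hb : (ends d).2 ∈ univ.image f
  · have ea := (ctrMk_eq_f0_iff hC _).2 ha
    have eb := (ctrMk_eq_f0_iff hC _).2 hb
    by_cases hab : (ends d).1 = (ends d).2
    · simp [ha, hb, hab]
    · simp [ha, hb, hab, Ne.symm hab, ea, eb]; ring
  · have hab : (ends d).1 ≠ (ends d).2 := fun h => hb (h ▸ ha)
    simp [ha, hb, hab, Ne.symm hab]
  · have hab : (ends d).1 ≠ (ends d).2 := fun h => ha (h ▸ hb)
    simp [ha, hb, hab, Ne.symm hab]
  · simp [ha, hb]

lemma isMultFn_ctr (hC : IsChain ends f e) (hβ : IsMultFn ends β) (hconst : ∀ i j, β (f i) = β (f j)) :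
    IsMultFn (ctrEnds ends (univ.image e)) (ctrFn ends (univ.image e) β) := by
  intro c
  obtain ⟨v, rfl⟩ := ctrMk_surjective ends (univ.image e) c
  rw [ctrFn_ctrMk hC hconst]
  refine ⟨(hβ v).1, ?_⟩
  rw [nb_eq]
  have hfn : (fun x => ctrFn ends (univ.image e) β (ctrMk ends (univ.image e) x)) = β :=
    funext (ctrFn_ctrMk hC hconst)
  by_cases hv : v ∈ univ.image f
  · have h0 : β v = β (f 0) := by
      obtain ⟨i, -, rfl⟩ := Finset.mem_image.1 hv; exact hconst i 0
    have h := nb_comp_sum hC (ctrFn ends (univ.image e) β)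
    rw [hfn, ctrFn_ctrMk hC hconst] at h
    rw [(ctrMk_eq_f0_iff hC v).2 hv, h0,
      eq_sub_of_add_eq h.symm]
    refine dvd_sub (Finset.dvd_sum fun i _ => ?_) (dvd_mul_left _ _)
    rw [← hconst i 0, ← nb_eq]
    exact (hβ (f i)).2
  · have h := nb_comp_notMem hC (ctrFn ends (univ.image e) β) hv
    rw [hfn] at h
    rw [← h, ← nb_eq]
    exact (hβ v).2

/-- Hypotheses on the chain: multiplicity equal to the length, self-intersection `-2`. -/
structure Good (ends : E → V × V) (β : V → ℤ) (f : Fin (m + 1) → V) (e : Fin m → E) : Prop where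
  mult : IsMultFn ends β
  chain : IsChain ends f e
  conn : ∀ i, IsConnecting ends (e i)
  val : ∀ i, β (f i) = m
  diag : ∀ i, mfMatrix ends β (f i) (f i) = -2

namespace Good

variable (G : Good ends β f e)
include G

lemma pos : 0 < m := by
  have := (G.mult (f 0)).1
  rw [G.val] at this
  exact_mod_cast this

lemma nb_f (i : Fin (m + 1)) : nb ends β (f i) = 2 * m := by
  have := diag_mul ends β G.mult (f i)
  rw [G.diag, G.val] at this
  linarith

lemma mulVec_f (x : V → ℤ) (i : Fin (m + 1)) :
    (mfMatrix ends β).mulVec x (f i) = -2 * x (f i) + nb ends x (f i) := by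
  rw [mulVec_eq, G.diag]

lemma nbTerm_edge_castSucc (x : V → ℤ) (i : Fin m) :
    nbTerm ends x (f i.castSucc) (e i) = x (f i.succ) := by
  have hne : f i.succ ≠ f i.castSucc := fun h => (Fin.castSucc_lt_succ (i := i)).ne' (G.chain.1 h)
  rcases G.chain.2.2 i with h | h <;> simp [nbTerm, h, hne]

lemma nbTerm_edge_succ (x : V → ℤ) (i : Fin m) :
    nbTerm ends x (f i.succ) (e i) = x (f i.castSucc) := by
  have hne : f i.castSucc ≠ f i.succ := fun h => (Fin.castSucc_lt_succ (i := i)).ne (G.chain.1 h)
  rcases G.chain.2.2 i with h | h <;> simp [nbTerm, h, hne]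

/-- An interior chain vertex meets only the two chain edges. -/
lemma interior (i j : Fin m) (hij : i.succ = j.castSucc) (d : E) (hdi : d ≠ e i) (hdj : d ≠ e j) :
    ¬ ((ends d).1 = f i.succ ∧ (ends d).2 ≠ f i.succ) ∧ ¬ ((ends d).2 = f i.succ ∧ (ends d).1 ≠ f i.succ) := by
  have hne : e i ≠ e j := fun h => by
    have := G.chain.2.1 h
    subst this
    exact (Fin.castSucc_lt_succ (i := i)).ne' hij
  have hnn : ∀ d', 0 ≤ nbTerm ends β (f i.succ) d' := fun d' => by
    unfold nbTerm
    exact add_nonneg (by split <;> simp [(G.mult _).1.le]) (by split <;> simp [(G.mult _).1.le])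
  have h := Finset.sum_le_sum_of_subset_of_nonneg (Finset.subset_univ {e i, e j, d})
    (fun d' _ _ => hnn d')
  rw [show ∑ d', nbTerm ends β (f i.succ) d' = 2 * (m : ℤ) from G.nb_f _,
    Finset.sum_insert (by simp [hne, Ne.symm hdi]), Finset.sum_pair (Ne.symm hdj), G.nbTerm_edge_succ, G.val, hij,
    G.nbTerm_edge_castSucc, G.val] at h
  rw [hij]
  constructor <;> intro hh
  · have hh' : ¬ ((ends d).2 = f j.castSucc ∧ (ends d).1 ≠ f j.castSucc) := fun h' => h'.2 hh.1
    rw [nbTerm, if_pos hh, if_neg hh'] at h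
    have := (G.mult (ends d).2).1
    omega
  · have hh' : ¬ ((ends d).1 = f j.castSucc ∧ (ends d).2 ≠ f j.castSucc) := fun h' => h'.2 hh.1
    rw [nbTerm, if_neg hh', if_pos hh] at h
    have := (G.mult (ends d).1).1
    omega

lemma nb_interior (x : V → ℤ) (i j : Fin m) (hij : i.succ = j.castSucc) :
    nb ends x (f i.succ) = x (f i.castSucc) + x (f j.succ) := by
  have hne : e i ≠ e j := fun h => by
    have := G.chain.2.1 h
    subst this
    exact (Fin.castSucc_lt_succ (i := i)).ne' hij
  rw [nb, ← Finset.sum_subset (Finset.subset_univ {e i, e j}), Finset.sum_pair hne, G.nbTerm_edge_succ, hij,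
    G.nbTerm_edge_castSucc]
  intro d _ hd
  simp only [Finset.mem_insert, Finset.mem_singleton, not_or] at hd
  obtain ⟨h1, h2⟩ := G.interior i j hij d hd.1 hd.2
  simp only [nbTerm]
  rw [if_neg h1, if_neg h2, add_zero]

lemma mulVec_comp_notMem (y : CtrVert ends (univ.image e) → ℤ) {v : V} (hv : v ∉ univ.image f) :
    (mfMatrix ends β).mulVec (fun x => y (ctrMk ends (univ.image e) x)) v =
      (mfMatrix (ctrEnds ends (univ.image e)) (ctrFn ends (univ.image e) β)).mulVec y
        (ctrMk ends (univ.image e) v) := by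
  have hconst : ∀ i j, β (f i) = β (f j) := fun i j => by rw [G.val, G.val]
  rw [mulVec_eq, mulVec_eq, nb_comp_notMem G.chain y hv]
  congr 2
  refine mul_right_cancel₀ (G.mult v).1.ne' ?_
  rw [diag_mul ends β G.mult]
  conv_rhs => rw [← ctrFn_ctrMk G.chain hconst v]
  rw [diag_mul _ _ (isMultFn_ctr G.chain G.mult hconst), ← nb_comp_notMem G.chain _ hv]
  simp only [ctrFn_ctrMk G.chain hconst]

lemma mulVec_comp_sum (y : CtrVert ends (univ.image e) → ℤ) :
    ∑ i, (mfMatrix ends β).mulVec (fun x => y (ctrMk ends (univ.image e) x)) (f i) =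
      (mfMatrix (ctrEnds ends (univ.image e)) (ctrFn ends (univ.image e) β)).mulVec y
        (ctrMk ends (univ.image e) (f 0)) := by
  have hconst : ∀ i j, β (f i) = β (f j) := fun i j => by rw [G.val, G.val]
  simp only [G.mulVec_f, Finset.sum_add_distrib, nb_comp_sum G.chain, ctrMk_f_eq G.chain]
  rw [mulVec_eq]
  have h := diag_mul _ _ (isMultFn_ctr G.chain G.mult hconst) (ctrMk ends (univ.image e) (f 0))
  have h2 := nb_comp_sum G.chain (ctrFn ends (univ.image e) β)
  simp only [ctrFn_ctrMk G.chain hconst, G.nb_f, G.val, Finset.sum_const, Finset.card_univ,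
    Fintype.card_fin, nsmul_eq_mul] at h h2
  have hm : (m : ℤ) ≠ 0 := by have := G.pos; omega
  have hd : mfMatrix (ctrEnds ends (univ.image e)) (ctrFn ends (univ.image e) β)
      (ctrMk ends (univ.image e) (f 0)) (ctrMk ends (univ.image e) (f 0)) = inner ends f - 2 * ((m : ℤ) + 1) := by
    refine mul_right_cancel₀ hm ?_
    rw [h]
    push_cast at h2
    linarith
  rw [hd, Finset.sum_const, Finset.card_univ, Fintype.card_fin, nsmul_eq_mul]
  push_cast
  ring

/-- A vector realising `δ(v₀) - δ(v_m)`. -/
lemma exists_shift : ∃ Z : V → ℤ, (∀ i : Fin (m + 1), Z (f i) = (i : ℕ)) ∧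
    ∀ v, (mfMatrix ends β).mulVec Z v = (if v = f 0 then 1 else 0) - (if v = f (Fin.last m) then 1 else 0) := by
  classical
  obtain ⟨k, rfl⟩ : ∃ k, m = k + 1 := ⟨m - 1, by have := G.pos; omega⟩
  obtain ⟨S0, hS0⟩ := G.conn 0
  obtain ⟨S, hS, hf0⟩ : ∃ S : Finset V, (∀ d, ((ends d).1 ∈ S ↔ (ends d).2 ∉ S) ↔ d = e 0) ∧ f 0 ∈ S := by
    by_cases h : f 0 ∈ S0
    · exact ⟨S0, hS0, h⟩
    · refine ⟨S0ᶜ, fun d => ?_, by simpa using h⟩
      rw [← hS0 d]
      simp only [Finset.mem_compl]
      tauto
  have hnoncross : ∀ d, d ≠ e 0 → ((ends d).1 ∈ S ↔ (ends d).2 ∈ S) := fun d hd => by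
    have := mt (hS d).1 hd; tauto
  have hchainS : ∀ i : Fin (k + 2), i ≠ 0 → f i ∉ S := by
    have hstep : ∀ j : Fin (k + 1), f j.succ ∉ S := by
      intro j
      induction j using Fin.induction with
      | zero =>
        have := (hS (e 0)).2 rfl
        rcases G.chain.2.2 0 with h | h <;> rw [h] at this <;> simp only [Fin.castSucc_zero] at this ⊢ <;> tauto
      | succ j ih =>
        have hne : e j.succ ≠ e 0 := fun h => Fin.succ_ne_zero _ (G.chain.2.1 h)
        have := hnoncross _ hne
        rw [Fin.succ_castSucc] at ih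
        rcases G.chain.2.2 j.succ with h | h <;> rw [h] at this <;> tauto
    intro i hi
    obtain ⟨j, rfl⟩ := Fin.exists_succ_eq.2 hi
    exact hstep j
  let Z : V → ℤ := fun v => if v ∈ S then 0 else if h : ∃ i, i ≠ Fin.last (k + 1) ∧ f i = v then (h.choose : ℕ) else β v
  have hZf : ∀ i : Fin (k + 2), Z (f i) = (i : ℕ) := by
    intro i
    by_cases h0 : i = 0
    · subst h0; simp [Z, hf0]
    · simp only [Z, if_neg (hchainS i h0)]
      by_cases hl : i = Fin.last (k + 1)
      · subst hl
        rw [dif_neg]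
        · rw [G.val]; simp
        · rintro ⟨j, hj, hj'⟩; exact hj (G.chain.1 hj')
      · have hex : ∃ j, j ≠ Fin.last (k + 1) ∧ f j = f i := ⟨i, hl, rfl⟩
        rw [dif_pos hex, G.chain.1 hex.choose_spec.2]
  have hZS : ∀ v ∈ S, Z v = 0 := fun v hv => by simp [Z, hv]
  refine ⟨Z, hZf, fun v => ?_⟩
  by_cases hint : ∃ i : Fin k, v = f i.castSucc.succ
  · obtain ⟨i, rfl⟩ := hint
    have h0 : f i.castSucc.succ ≠ f 0 := fun h => Fin.succ_ne_zero _ (G.chain.1 h)
    have hl : f i.castSucc.succ ≠ f (Fin.last (k + 1)) := fun h => by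
      have := congrArg Fin.val (G.chain.1 h); simp at this; omega
    rw [G.mulVec_f, G.nb_interior Z i.castSucc i.succ (Fin.succ_castSucc i), hZf, hZf, hZf, if_neg h0, if_neg hl]
    simp
    ring
  · by_cases hvS : v ∈ S
    · have hl : v ≠ f (Fin.last (k + 1)) := fun h => hchainS _ (Fin.last_pos.ne') (h ▸ hvS)
      rw [mulVec_eq, hZS v hvS, mul_zero, zero_add, if_neg hl, sub_zero, nb, Finset.sum_eq_single (e 0)]
      · by_cases hv0 : v = f 0
        · subst hv0
          have := G.nbTerm_edge_castSucc Z 0
          simp only [Fin.castSucc_zero] at this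
          rw [this, hZf, if_pos rfl]; simp
        · rw [if_neg hv0]
          rcases G.chain.2.2 0 with h | h
          all_goals
            simp only [nbTerm, h, Fin.castSucc_zero]
            have h1 : f (Fin.succ 0) ≠ v := fun h' => hchainS _ (Fin.succ_ne_zero _) (h' ▸ hvS)
            simp [Ne.symm hv0, h1] <;> intro h2 <;> exact absurd h2 (by simpa using h1)
      · intro d _ hd
        have hnc := hnoncross d hd
        simp only [nbTerm]
        by_cases h1 : (ends d).1 = v <;> by_cases h2 : (ends d).2 = v <;> simp [h1, h2] <;>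
          first
            | exact hZS _ (hnc.1 (h1 ▸ hvS))
            | exact hZS _ (hnc.2 (h2 ▸ hvS))
      · simp
    · have h0 : v ≠ f 0 := fun h => hvS (h ▸ hf0)
      have hZv : Z v = β v := by
        by_cases hl : v = f (Fin.last (k + 1))
        · subst hl; rw [hZf, G.val]; simp
        · simp only [Z, if_neg hvS]
          rw [dif_neg]
          rintro ⟨i, hi, rfl⟩
          have hi0 : i ≠ 0 := fun h => h0 (by rw [h])
          have hiv : (i : ℕ) ≠ k + 1 := fun h => hi (Fin.ext (by simpa using h))
          have hi0v : (i : ℕ) ≠ 0 := fun h => hi0 (Fin.ext (by simpa using h))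
          have := i.isLt
          exact hint ⟨⟨(i : ℕ) - 1, by omega⟩, congrArg f (Fin.ext (by simp; omega))⟩
      rw [mulVec_eq, hZv, diag_mul ends β G.mult, if_neg h0, zero_sub, nb, nb, neg_add_eq_sub,
        ← Finset.sum_sub_distrib, Finset.sum_eq_single (e (Fin.last k))]
      · by_cases hl : v = f (Fin.last (k + 1))
        · subst hl
          rw [if_pos rfl]
          have h1 := G.nbTerm_edge_succ Z (Fin.last k)
          have h2 := G.nbTerm_edge_succ β (Fin.last k)
          simp only [Fin.succ_last] at h1 h2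
          rw [h1, h2, hZf, G.val]; simp
        · rw [if_neg hl]
          rcases G.chain.2.2 (Fin.last k) with h | h
          all_goals
            have h1 : f (Fin.last k).castSucc ≠ v := by
              intro h'
              rcases Nat.eq_zero_or_pos k with rfl | hk
              · exact h0 (h'.symm.trans (congrArg f (Fin.ext (by simp))))
              · exact hint ⟨⟨k - 1, by omega⟩, h'.symm.trans (congrArg f (Fin.ext (by simp; omega)))⟩
            simp [nbTerm, h, Fin.succ_last, Ne.symm hl, h1]
      · intro d _ hd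
        -- the other endpoint of `d` at `v` has the value `β`
        have key : ∀ u, ((ends d).1 = v ∧ (ends d).2 = u ∨ (ends d).2 = v ∧ (ends d).1 = u) → u ≠ v → Z u = β u := by
          intro u hu huv
          have hd0 : d ≠ e 0 := by
            rintro rfl
            rcases G.chain.2.2 0 with h | h <;> rw [h] at hu <;> simp only [Fin.castSucc_zero] at hu
            all_goals
              rcases hu with ⟨hu1, hu2⟩ | ⟨hu1, hu2⟩
              all_goals first
                | exact h0 hu1.symm
                | skip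
            all_goals
              rcases Nat.eq_zero_or_pos k with rfl | hk
              · exact hd rfl
              · exact hint ⟨⟨0, hk⟩, hu1.symm.trans (congrArg f (Fin.ext (by simp)))⟩
          have huS : u ∉ S := by
            have := hnoncross d hd0
            rcases hu with ⟨h1, h2⟩ | ⟨h1, h2⟩ <;> rw [h1, h2] at this <;> tauto
          simp only [Z, if_neg huS]
          rw [dif_neg]
          rintro ⟨i, hi, rfl⟩
          have hi0 : i ≠ 0 := fun h => huS (h ▸ hf0)
          have hiv : (i : ℕ) ≠ k + 1 := fun h => hi (Fin.ext (by simpa using h))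
          have hi0v : (i : ℕ) ≠ 0 := fun h => hi0 (Fin.ext (by simpa using h))
          have := i.isLt
          obtain ⟨l, hl⟩ : ∃ l : Fin k, i = l.castSucc.succ :=
            ⟨⟨(i : ℕ) - 1, by omega⟩, Fin.ext (by simp; omega)⟩
          subst hl
          by_cases hdl : d = e l.castSucc
          · subst hdl
            rcases G.chain.2.2 l.castSucc with h | h <;> rw [h] at hu
            all_goals
              rcases hu with ⟨hu1, hu2⟩ | ⟨hu1, hu2⟩
              all_goals
                first
                  | exact huv hu1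
                  | skip
            all_goals
              rcases Nat.eq_zero_or_pos (l : ℕ) with hl0 | hl0
              · exact h0 (hu1.symm.trans (congrArg f (Fin.ext (by simp [hl0]))))
              · exact hint ⟨⟨(l : ℕ) - 1, by omega⟩, hu1.symm.trans (congrArg f (Fin.ext (by simp; omega)))⟩
          by_cases hdl' : d = e l.succ
          · subst hdl'
            have hll : l.succ ≠ Fin.last k := fun h => hd (by rw [h])
            have hlv : (l : ℕ) + 1 ≠ k := fun h => hll (Fin.ext (by simpa using h))
            rcases G.chain.2.2 l.succ with h | h <;> rw [h] at hu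
            all_goals
              rcases hu with ⟨hu1, hu2⟩ | ⟨hu1, hu2⟩
              all_goals
                first
                  | exact huv ((congrArg f (Fin.succ_castSucc l)).trans hu1)
                  | exact huv ((congrArg f (Fin.succ_castSucc l).symm).trans hu1)
                  | exact hint ⟨⟨(l : ℕ) + 1, by omega⟩, hu1.symm.trans (congrArg f (Fin.ext (by simp)))⟩
          obtain ⟨k1, k2⟩ := G.interior l.castSucc l.succ (Fin.succ_castSucc l) d hdl hdl'
          rcases hu with ⟨h1, h2⟩ | ⟨h1, h2⟩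
          · exact k2 ⟨h2, fun h => huv (h.symm.trans h1)⟩
          · exact k1 ⟨h2, fun h => huv (h.symm.trans h1)⟩
        simp only [nbTerm]
        by_cases h1 : (ends d).1 = v <;> by_cases h2 : (ends d).2 = v <;> simp [h1, h2]
        · rw [key _ (Or.inl ⟨h1, rfl⟩) h2, sub_self]
        · rw [key _ (Or.inr ⟨h2, rfl⟩) h1, sub_self]
      · simp

end Good

end chain

end Groth.Agent.LabGraphLead
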