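import Groth.Agent.LabGraphLead.Chain

/-! The map of component groups induced by contracting a connecting chain. -/

set_option autoImplicit false

universe u

namespace Groth.Agent.LabGraphLead.Good

open LabGraph Finset DualGr

variable {V E : Type u} [Fintype V] [Fintype E] [DecidableEq V] [DecidableEq E]
variable {ends : E → V × V} {β : V → ℤ} {m : ℕ} {f : Fin (m + 1) → V} {e : Fin m → E}
variable (G : Good ends β f e)
include G

lemma liftAt_notMem (x : CtrVert ends (univ.image e) → ℤ) {v : V} (hv : v ∉ univ.image f) :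
    liftAt ends (univ.image e) (f 0) x v = x (ctrMk ends (univ.image e) v) := by
  rw [liftAt, if_neg]
  exact fun h => hv ((ctrMk_eq_f0_iff G.chain v).1 h.1)

lemma liftAt_f (x : CtrVert ends (univ.image e) → ℤ) (i : Fin (m + 1)) :
    liftAt ends (univ.image e) (f 0) x (f i) =
      if i = 0 then x (ctrMk ends (univ.image e) (f 0)) else 0 := by
  by_cases hi : i = 0
  · subst hi; simp [liftAt]
  · rw [if_neg hi, liftAt, if_pos ⟨ctrMk_f_eq G.chain i, fun h => hi (G.chain.1 h)⟩]

lemma beta_liftAt (x : CtrVert ends (univ.image e) → ℤ) :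
    betaHom β (liftAt ends (univ.image e) (f 0) x) =
      betaHom (ctrFn ends (univ.image e) β) x := by
  simp only [betaHom, Fintype.linearCombination_apply, smul_eq_mul]
  rw [← Finset.sum_fiberwise univ (ctrMk ends (univ.image e)) (fun v => liftAt ends (univ.image e) (f 0) x v * β v)]
  refine Finset.sum_congr rfl fun c _ => ?_
  obtain ⟨v, rfl⟩ := ctrMk_surjective ends (univ.image e) c
  rw [ctrFn_ctrMk G.chain (fun i j => by rw [G.val, G.val])]
  by_cases hv : v ∈ univ.image f
  · have : (univ.filter fun a => ctrMk ends (univ.image e) a = ctrMk ends (univ.image e) v) = univ.image f := by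
      ext a; simp [(ctrMk_eq_f0_iff G.chain v).2 hv, ctrMk_eq_f0_iff G.chain]
    rw [this, Finset.sum_image fun a _ b _ h => G.chain.1 h, Finset.sum_eq_single (0 : Fin (m + 1))
      (fun i _ hi => by rw [G.liftAt_f, if_neg hi, zero_mul]) (by simp)]
    obtain ⟨i, -, rfl⟩ := Finset.mem_image.1 hv
    rw [G.liftAt_f, if_pos rfl, ctrMk_f_eq G.chain i, G.val, G.val]
  · have : (univ.filter fun a => ctrMk ends (univ.image e) a = ctrMk ends (univ.image e) v) = {v} := by
      ext a; simp [ctrMk_eq_iff_notMem G.chain hv]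
    rw [this, Finset.sum_singleton, G.liftAt_notMem x hv]

/-- An interior index of the chain. -/
lemma exists_interior {i : Fin (m + 1)} (h0 : i ≠ 0) (hl : i ≠ Fin.last m) :
    ∃ a b : Fin m, a.succ = b.castSucc ∧ a.succ = i := by
  have h0' : (i : ℕ) ≠ 0 := fun h => h0 (Fin.ext (by simpa using h))
  have hl' : (i : ℕ) ≠ m := fun h => hl (Fin.ext (by simpa using h))
  have := i.isLt
  exact ⟨⟨(i : ℕ) - 1, by omega⟩, ⟨(i : ℕ), by omega⟩, Fin.ext (by simp; omega), Fin.ext (by simp; omega)⟩

lemma sum_f_eq (r : V → ℤ) (hr : ∀ i : Fin (m + 1), i ≠ 0 → i ≠ Fin.last m → r (f i) = 0) :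
    ∑ i, r (f i) = r (f 0) + r (f (Fin.last m)) := by
  have hne : (0 : Fin (m + 1)) ≠ Fin.last m := fun h => by
    have := congrArg Fin.val h; simp at this; have := G.pos; omega
  rw [← Finset.sum_subset (Finset.subset_univ {0, Fin.last m}), Finset.sum_pair hne]
  intro i _ hi
  simp only [Finset.mem_insert, Finset.mem_singleton, not_or] at hi
  exact hr i hi.1 hi.2

lemma last_ne_zero : f (Fin.last m) ≠ f 0 := fun h => by
  have := congrArg Fin.val (G.chain.1 h); simp at this; have := G.pos; omega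

lemma map_range {x : CtrVert ends (univ.image e) → ℤ}
    (hx : x ∈ LinearMap.range (Matrix.mulVecLin
      (mfMatrix (ctrEnds ends (univ.image e)) (ctrFn ends (univ.image e) β)))) :
    liftAt ends (univ.image e) (f 0) x ∈ LinearMap.range (Matrix.mulVecLin (mfMatrix ends β)) := by
  obtain ⟨y, rfl⟩ := hx
  obtain ⟨Z, -, hZ⟩ := G.exists_shift
  set r := (mfMatrix ends β).mulVec (fun v => y (ctrMk ends (univ.image e) v)) with hr
  have hint : ∀ i : Fin (m + 1), i ≠ 0 → i ≠ Fin.last m → r (f i) = 0 := by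
    intro i h0 hl
    obtain ⟨a, b, hab, rfl⟩ := G.exists_interior h0 hl
    rw [hr, G.mulVec_f, G.nb_interior _ a b hab]
    simp only [ctrMk_f_eq G.chain]
    ring
  have hsum := G.mulVec_comp_sum y
  rw [← hr, G.sum_f_eq r hint] at hsum
  refine ⟨(fun v => y (ctrMk ends (univ.image e) v)) + r (f (Fin.last m)) • Z, ?_⟩
  funext v
  simp only [Matrix.mulVecLin_apply, Matrix.mulVec_add, Matrix.mulVec_smul, Pi.add_apply, Pi.smul_apply,
    smul_eq_mul, hZ, ← hr]
  by_cases hv : v ∈ univ.image f
  · obtain ⟨i, -, rfl⟩ := Finset.mem_image.1 hv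
    rw [G.liftAt_f]
    by_cases h0 : i = 0
    · subst h0
      rw [if_pos rfl, if_pos rfl, if_neg G.last_ne_zero.symm, ← hsum]
      ring
    · rw [if_neg h0, if_neg (fun h => h0 (G.chain.1 h))]
      by_cases hl : i = Fin.last m
      · subst hl; rw [if_pos rfl]; ring
      · rw [if_neg (fun h => hl (G.chain.1 h)), hint i h0 hl]; ring
  · have h1 : v ≠ f 0 := fun h => hv (h ▸ Finset.mem_image_of_mem f (Finset.mem_univ _))
    have h2 : v ≠ f (Fin.last m) := fun h => hv (h ▸ Finset.mem_image_of_mem f (Finset.mem_univ _))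
    rw [G.liftAt_notMem _ hv, if_neg h1, if_neg h2, hr, G.mulVec_comp_notMem y hv]
    ring

/-- Solution of a second-order recursion. -/
def seq (u : ℕ → ℤ) : ℕ → ℤ × ℤ
  | 0 => (0, 0)
  | n + 1 => ((seq u n).2, u (n + 1) + 2 * (seq u n).2 - (seq u n).1)

lemma exists_preimage (u : V → ℤ) (hu : betaHom β u = 0) :
    ∃ x : CtrVert ends (univ.image e) → ℤ, betaHom (ctrFn ends (univ.image e) β) x = 0 ∧
      u - liftAt ends (univ.image e) (f 0) x ∈ LinearMap.range (Matrix.mulVecLin (mfMatrix ends β)) := by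
  classical
  obtain ⟨Z, -, hZ⟩ := G.exists_shift
  let u' : ℕ → ℤ := fun n => if h : n < m + 1 then u (f ⟨n, h⟩) else 0
  let z : V → ℤ := fun v => if h : ∃ i, f i = v then (seq u' (h.choose : ℕ)).1 else 0
  have hz : ∀ i : Fin (m + 1), z (f i) = (seq u' (i : ℕ)).1 := by
    intro i
    have h : ∃ j, f j = f i := ⟨i, rfl⟩
    simp only [z, dif_pos h, G.chain.1 h.choose_spec]
  set r := u - (mfMatrix ends β).mulVec z with hr
  have hint : ∀ i : Fin (m + 1), i ≠ 0 → i ≠ Fin.last m → r (f i) = 0 := by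
    intro i h0 hl
    obtain ⟨a, b, hab, rfl⟩ := G.exists_interior h0 hl
    have hb : (b : ℕ) = (a : ℕ) + 1 := by
      have := congrArg Fin.val hab; simpa using this.symm
    simp only [hr, Pi.sub_apply]
    rw [G.mulVec_f, G.nb_interior z a b hab, hz, hz, hz]
    simp only [Fin.val_succ, Fin.val_castSucc, hb, seq]
    have : u' ((a : ℕ) + 1) = u (f a.succ) := dif_pos a.succ.isLt
    rw [this]
    ring
  set w := r + r (f (Fin.last m)) • (mfMatrix ends β).mulVec Z with hw
  have hwf : ∀ i : Fin (m + 1), i ≠ 0 → w (f i) = 0 := by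
    intro i h0
    simp only [hw, Pi.add_apply, Pi.smul_apply, smul_eq_mul, hZ]
    rw [if_neg (fun h => h0 (G.chain.1 h))]
    by_cases hl : i = Fin.last m
    · subst hl; rw [if_pos rfl]; ring
    · rw [if_neg (fun h => hl (G.chain.1 h)), hint i h0 hl]; ring
  let x : CtrVert ends (univ.image e) → ℤ := pushV ends (univ.image e) w
  have hx : ∀ c, x c = ∑ v ∈ univ.filter (fun v => ctrMk ends (univ.image e) v = c), w v := fun c => rfl
  have hlift : liftAt ends (univ.image e) (f 0) x = w := by
    funext v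
    by_cases hv : v ∈ univ.image f
    · obtain ⟨i, -, rfl⟩ := Finset.mem_image.1 hv
      rw [G.liftAt_f]
      by_cases h0 : i = 0
      · subst h0
        have : (univ.filter fun a => ctrMk ends (univ.image e) a = ctrMk ends (univ.image e) (f 0)) = univ.image f := by
          ext a; simp [ctrMk_eq_f0_iff G.chain]
        rw [if_pos rfl, hx, this, Finset.sum_image fun a _ b _ h => G.chain.1 h,
          Finset.sum_eq_single (0 : Fin (m + 1)) (fun i _ hi => hwf i hi) (by simp)]
      · rw [if_neg h0, hwf i h0]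
    · have : (univ.filter fun a => ctrMk ends (univ.image e) a = ctrMk ends (univ.image e) v) = {v} := by
        ext a; simp [ctrMk_eq_iff_notMem G.chain hv]
      rw [G.liftAt_notMem x hv, hx, this, Finset.sum_singleton]
  have hbeta : ∀ y : V → ℤ, betaHom β ((mfMatrix ends β).mulVec y) = 0 := fun y => by
    simpa [betaHom, Fintype.linearCombination_apply] using sum_beta_mulVec ends β G.mult y
  refine ⟨x, ?_, ?_⟩
  · rw [← G.beta_liftAt, hlift, hw, hr, map_add, map_sub, map_smul, hu, hbeta, hbeta, sub_zero,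
      smul_zero, add_zero]
  · rw [hlift]
    refine ⟨z - r (f (Fin.last m)) • Z, ?_⟩
    simp only [Matrix.mulVecLin_apply, Matrix.mulVec_sub, Matrix.mulVec_smul, hw, hr]
    abel

lemma mem_range_of_lift {x : CtrVert ends (univ.image e) → ℤ}
    (hfx : liftAt ends (univ.image e) (f 0) x ∈ LinearMap.range (Matrix.mulVecLin (mfMatrix ends β))) :
    x ∈ LinearMap.range (Matrix.mulVecLin
      (mfMatrix (ctrEnds ends (univ.image e)) (ctrFn ends (univ.image e) β))) := by
  obtain ⟨z, hz⟩ := hfx
  rw [Matrix.mulVecLin_apply] at hz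
  obtain ⟨Z, hZf, hZ⟩ := G.exists_shift
  set a := z (f ⟨1, by have := G.pos; omega⟩) - z (f 0) with ha
  have hlin : ∀ n, ∀ hn : n < m + 1, z (f ⟨n, hn⟩) = z (f 0) + n * a := by
    intro n
    induction n using Nat.strong_induction_on with
    | h n ih =>
      intro hn
      match n with
      | 0 =>
        rw [show (⟨0, hn⟩ : Fin (m + 1)) = 0 from Fin.ext (by simp)]; simp
      | 1 => rw [ha]; push_cast; ring
      | k + 2 =>
        have h := congrFun hz (f ⟨k + 1, by omega⟩)
        have hs : (⟨k + 1, by omega⟩ : Fin (m + 1)) = (⟨k, by omega⟩ : Fin m).succ := Fin.ext (by simp)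
        rw [hs, G.mulVec_f, G.nb_interior z ⟨k, by omega⟩ ⟨k + 1, by omega⟩ (Fin.ext (by simp)),
          G.liftAt_f, if_neg (Fin.succ_ne_zero _)] at h
        simp only [Fin.succ_mk, Fin.castSucc_mk] at h
        rw [ih k (by omega), ih (k + 1) (by omega)] at h
        push_cast at h ⊢
        linarith
  set w := z - a • Z with hw
  have hwf : ∀ i : Fin (m + 1), w (f i) = z (f 0) := by
    intro i
    simp only [hw, Pi.sub_apply, Pi.smul_apply, smul_eq_mul, hZf]
    rw [show i = ⟨(i : ℕ), i.isLt⟩ from rfl, hlin]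
    ring
  set y := ctrFn ends (univ.image e) w with hy
  have hyw : (fun v => y (ctrMk ends (univ.image e) v)) = w :=
    funext (ctrFn_ctrMk G.chain fun i j => by rw [hwf, hwf])
  have haw : (mfMatrix ends β).mulVec w =
      fun v => liftAt ends (univ.image e) (f 0) x v -
        a * ((if v = f 0 then 1 else 0) - (if v = f (Fin.last m) then 1 else 0)) := by
    funext v
    simp only [hw, Matrix.mulVec_sub, Matrix.mulVec_smul, Pi.sub_apply, Pi.smul_apply, smul_eq_mul, hZ, hz]
  refine ⟨y, ?_⟩
  funext c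
  rw [Matrix.mulVecLin_apply]
  obtain ⟨v, rfl⟩ := ctrMk_surjective ends (univ.image e) c
  by_cases hv : v ∈ univ.image f
  · rw [(ctrMk_eq_f0_iff G.chain v).2 hv, ← G.mulVec_comp_sum y, hyw, haw]
    simp only [Finset.sum_sub_distrib, ← Finset.mul_sum, G.liftAt_f, G.chain.1.eq_iff, Finset.sum_ite_eq',
      Finset.mem_univ, if_true]
    ring
  · have h1 : v ≠ f 0 := fun h => hv (h ▸ Finset.mem_image_of_mem f (Finset.mem_univ _))
    have h2 : v ≠ f (Fin.last m) := fun h => hv (h ▸ Finset.mem_image_of_mem f (Finset.mem_univ _))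
    rw [← G.mulVec_comp_notMem y hv, hyw, haw]
    simp only [G.liftAt_notMem x hv, if_neg h1, if_neg h2]
    ring

end Groth.Agent.LabGraphLead.Good
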