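import Groth.Agent.LabGraphLead.Forest
import Groth.Prelude.Def_W4c2conddiscmodels

/-! The weighted matrix-tree theorem for multigraphs, by expansion along parent choices. -/

set_option autoImplicit false

universe u

namespace Groth.Agent.LabGraphLead

open LabGraph Finset

variable {V E : Type u} [Fintype V] [Fintype E] [DecidableEq V] [DecidableEq E]
variable (ends : E → V × V) (r : V)

/-- The other endpoint. -/
def oth (v : V) (e : E) : V := if (ends e).1 = v then (ends e).2 else (ends e).1

/-- A proper edge at a vertex. -/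
def IncAt (v : V) (e : E) : Prop := ((ends e).1 = v ∨ (ends e).2 = v) ∧ (ends e).1 ≠ (ends e).2

lemma IncAt.oth_ne {v : V} {e : E} (h : IncAt ends v e) : oth ends v e ≠ v := by
  obtain ⟨h1, h2⟩ := h
  unfold oth
  rcases h1 with h | h
  · rw [if_pos h]; exact fun h' => h2 (h.trans h'.symm)
  · have : (ends e).1 ≠ v := fun h' => h2 (h'.trans h.symm)
    rw [if_neg this]; exact this

lemma IncAt.ends_eq {v : V} {e : E} (h : IncAt ends v e) :
    ends e = (v, oth ends v e) ∨ ends e = (oth ends v e, v) := by
  obtain ⟨h1, h2⟩ := h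
  unfold oth
  rcases h1 with h | h
  · rw [if_pos h]; exact Or.inl (Prod.ext h rfl)
  · have : (ends e).1 ≠ v := fun h' => h2 (h'.trans h.symm)
    rw [if_neg this]; exact Or.inr (Prod.ext rfl h)

/-- A choice of one proper edge at every vertex other than the root. -/
def Valid (c : V → Option E) : Prop :=
  c r = none ∧ ∀ v, v ≠ r → ∃ e, c v = some e ∧ IncAt ends v e

/-- The vertex following `v`. -/
def par (c : V → Option E) (v : V) : V := (c v).elim v (oth ends v)

/-- All vertices lead to the root. -/
def Rooted (c : V → Option E) : Prop :=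
  Valid ends r c ∧ ∀ v, ∃ k : ℕ, (par ends c)^[k] v = r

/-- The chosen edges. -/
def treeOf (c : V → Option E) : Finset E := univ.filter fun e => ∃ v, c v = some e

variable {ends r}

open Classical in
/-- Steps to the root. -/
noncomputable def Rooted.depth {c : V → Option E} (h : Rooted ends r c) (v : V) : ℕ :=
  Nat.find (h.2 v)

open Classical in
lemma Rooted.depth_par_lt {c : V → Option E} (h : Rooted ends r c) {v : V} (hv : v ≠ r) :
    h.depth (par ends c v) < h.depth v := by
  have hs := Nat.find_spec (h.2 v)
  have hpos : h.depth v ≠ 0 := fun h0 => by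
    rw [show Nat.find (h.2 v) = 0 from h0] at hs
    exact hv (by simpa using hs)
  obtain ⟨k, hk⟩ := Nat.exists_eq_succ_of_ne_zero hpos
  rw [show Nat.find (h.2 v) = k + 1 from hk, Function.iterate_succ_apply] at hs
  have : Nat.find (h.2 (par ends c v)) ≤ k := Nat.find_min' _ hs
  show Nat.find (h.2 (par ends c v)) < h.depth v
  omega

lemma Valid.par_eq {c : V → Option E} (h : Valid ends r c) {v : V} {e : E} (he : c v = some e) :
    v ≠ r ∧ IncAt ends v e ∧ par ends c v = oth ends v e := by
  have hv : v ≠ r := fun hv => by rw [hv, h.1] at he; exact absurd he (by simp)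
  obtain ⟨e', he', hi⟩ := h.2 v hv
  rw [he] at he'
  obtain rfl := Option.some.inj he'
  exact ⟨hv, hi, by simp [par, he]⟩

lemma Rooted.injective {c : V → Option E} (h : Rooted ends r c) {v w : V} {e : E}
    (hv : c v = some e) (hw : c w = some e) : v = w := by
  obtain ⟨hvr, hiv, hpv⟩ := h.1.par_eq hv
  obtain ⟨hwr, hiw, hpw⟩ := h.1.par_eq hw
  by_contra hne
  have h1 : oth ends v e = w ∧ oth ends w e = v := by
    rcases hiv.ends_eq with h1 | h1 <;> rcases hiw.ends_eq with h2 | h2 <;> rw [h1, Prod.mk.injEq] at h2
    · exact absurd h2.1 hne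
    · exact ⟨h2.2, h2.1.symm⟩
    · exact ⟨h2.1, h2.2.symm⟩
    · exact absurd h2.2 hne
  have a := h.depth_par_lt hvr
  have b := h.depth_par_lt hwr
  rw [hpv, h1.1] at a
  rw [hpw, h1.2] at b
  omega

lemma reach_iff_adj (T : Finset E) {a b : V} :
    Relation.ReflTransGen (LabGraph.Adj (fun e : T => ends e.1)) a b ↔ Reach ends T a b := by
  constructor
  · intro h
    induction h with
    | refl => exact Relation.EqvGen.refl _
    | tail _ hbc ih =>
      obtain ⟨d, hd | hd⟩ := hbc
      · exact Relation.EqvGen.trans _ _ _ ih (Relation.EqvGen.rel _ _ ⟨d.1, d.2, hd⟩)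
      · exact Relation.EqvGen.trans _ _ _ ih (Relation.EqvGen.symm _ _ (Relation.EqvGen.rel _ _ ⟨d.1, d.2, hd⟩))
  · intro h
    induction h with
    | rel a b hab =>
      obtain ⟨d, hd, hab⟩ := hab
      exact Relation.ReflTransGen.single ⟨⟨d, hd⟩, Or.inl hab⟩
    | refl a => exact Relation.ReflTransGen.refl
    | symm a b _ ih =>
      clear * - ih
      induction ih with
      | refl => exact Relation.ReflTransGen.refl
      | tail _ h ih' => exact ih'.head ⟨h.choose, h.choose_spec.symm⟩
    | trans a b c _ _ i1 i2 => exact i1.trans i2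

lemma endCount_map (T : Finset E) (D : Finset T) (v : V) :
    endCount ends (D.map (Function.Embedding.subtype _)) v = endCount (fun e : T => ends e.1) D v := by
  simp only [endCount, Finset.sum_map, Function.Embedding.subtype_apply]
  congr!

lemma isCircuit_map_iff (T : Finset E) (D : Finset T) :
    IsCircuit ends (D.map (Function.Embedding.subtype _)) ↔ IsCircuit (fun e : T => ends e.1) D := by
  constructor
  · rintro ⟨hne, heven, hmin⟩
    refine ⟨Finset.map_nonempty.1 hne, fun v => endCount_map T D v ▸ heven v, fun D' hD' hne' => ?_⟩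
    obtain ⟨v, hv⟩ := hmin _ (Finset.map_ssubset_map.2 hD') hne'.map
    exact ⟨v, endCount_map T D' v ▸ hv⟩
  · rintro ⟨hne, heven, hmin⟩
    refine ⟨hne.map, fun v => (endCount_map T D v).symm ▸ heven v, fun D' hD' hne' => ?_⟩
    have hsub : ∀ x ∈ D', x ∈ T := fun x hx => by
      obtain ⟨d, -, rfl⟩ := Finset.mem_map.1 (hD'.subset hx); exact d.2
    have hD'' : (D'.subtype (· ∈ T)).map (Function.Embedding.subtype _) = D' := by
      rw [Finset.subtype_map]; exact Finset.filter_true_of_mem hsub
    obtain ⟨v, hv⟩ := hmin (D'.subtype (· ∈ T)) (Finset.map_ssubset_map.1 (hD''.symm ▸ hD'))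
      (Finset.map_nonempty.1 (hD''.symm ▸ hne'))
    exact ⟨v, hD'' ▸ (endCount_map T _ v).symm ▸ hv⟩

lemma isForest_iff_acyclic (T : Finset E) :
    DualGr.IsForest (V := V) (fun e : T => ends e.1) ↔ Acyclic ends T := by
  constructor
  · intro h C hC hC'
    refine h (C.subtype (· ∈ T)) ((isCircuit_map_iff T _).1 ?_)
    rwa [Finset.subtype_map, Finset.filter_true_of_mem hC]
  · intro h D hD
    refine h _ (fun x hx => ?_) ((isCircuit_map_iff T D).2 hD)
    obtain ⟨d, -, rfl⟩ := Finset.mem_map.1 hx
    exact d.2

lemma isSpanningTree_iff (T : Finset E) :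
    IsSpanningTree ends T ↔ (Nonempty V ∧ ∀ a b, Reach ends T a b) ∧ Acyclic ends T := by
  simp only [IsSpanningTree, DualGr.IsTree, LabGraph.Connected, isForest_iff_acyclic, reach_iff_adj]

lemma Rooted.reach {c : V → Option E} (h : Rooted ends r c) (v : V) : Reach ends (treeOf c) v r := by
  induction hn : h.depth v using Nat.strong_induction_on generalizing v with
  | h n ih =>
    by_cases hv : v = r
    · subst hv; exact Relation.EqvGen.refl _
    obtain ⟨e, he, hi⟩ := h.1.2 v hv
    have hp : par ends c v = oth ends v e := (h.1.par_eq he).2.2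
    have hr := ih _ (hn ▸ h.depth_par_lt hv) _ rfl
    rw [hp] at hr
    refine Relation.EqvGen.trans _ _ _ ?_ hr
    have hmem : e ∈ treeOf c := by simp [treeOf]; exact ⟨v, he⟩
    rcases hi.ends_eq with h' | h'
    · exact Relation.EqvGen.rel _ _ ⟨e, hmem, h'⟩
    · exact Relation.EqvGen.symm _ _ (Relation.EqvGen.rel _ _ ⟨e, hmem, h'⟩)

lemma Rooted.spanning {c : V → Option E} (h : Rooted ends r c) : IsSpanningTree ends (treeOf c) := by
  classical
  rw [isSpanningTree_iff]
  refine ⟨⟨⟨r⟩, fun a b => Relation.EqvGen.trans _ _ _ (h.reach a) (Relation.EqvGen.symm _ _ (h.reach b))⟩, ?_⟩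
  rintro D hD ⟨hne, heven, -⟩
  let S := univ.filter fun v => ∃ e ∈ D, c v = some e
  have hS : S.Nonempty := by
    obtain ⟨e, he⟩ := hne
    obtain ⟨v, hv⟩ := (Finset.mem_filter.1 (hD he)).2
    exact ⟨v, by simp [S]; exact ⟨e, he, hv⟩⟩
  obtain ⟨v, hv, hmax⟩ := Finset.exists_max_image S h.depth hS
  obtain ⟨e, heD, hev⟩ := (Finset.mem_filter.1 hv).2
  obtain ⟨hvr, hi, hp⟩ := h.1.par_eq hev
  refine Nat.not_even_iff_odd.2 ⟨0, ?_⟩ (heven v)
  rw [endCount, Finset.sum_eq_single e]
  · rcases hi.1 with h1 | h1
    · rw [if_pos h1, if_neg (fun h2 => hi.2 (h1.trans h2.symm))]; rfl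
    · rw [if_pos h1, if_neg (fun h2 => hi.2 (h2.trans h1.symm))]; rfl
  · intro x hx hxe
    obtain ⟨w, hw⟩ := (Finset.mem_filter.1 (hD hx)).2
    obtain ⟨hwr, hiw, hpw⟩ := h.1.par_eq hw
    by_contra h0
    have hat : (ends x).1 = v ∨ (ends x).2 = v := by
      by_contra hn
      push Not at hn
      simp [hn.1, hn.2] at h0
    have hwv : w ≠ v := fun h' => hxe (by rw [h', hev] at hw; exact (Option.some.inj hw).symm)
    have hov : oth ends w x = v := by
      rcases hiw.ends_eq with h1 | h1 <;> rw [h1] at hat <;> simp only at hat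
      · exact hat.resolve_left hwv
      · exact hat.resolve_right hwv
    have h1 := h.depth_par_lt hwr
    rw [hpw, hov] at h1
    have h2 := hmax w (by simp [S]; exact ⟨x, hx, hw⟩)
    omega
  · exact fun h' => absurd heD h'

lemma Rooted.ext {c c' : V → Option E} (h : Rooted ends r c) (h' : Rooted ends r c')
    (hT : treeOf c = treeOf c') : c = c' := by
  funext v
  induction hn : h.depth v using Nat.strong_induction_on generalizing v with
  | h n ih =>
    by_cases hv : v = r
    · rw [hv, h.1.1, h'.1.1]
    obtain ⟨e, he, hi⟩ := h.1.2 v hv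
    have hp := (h.1.par_eq he).2.2
    have hu := ih _ (hn ▸ h.depth_par_lt hv) (par ends c v) rfl
    have hmem : e ∈ treeOf c' := hT ▸ (by simp [treeOf]; exact ⟨v, he⟩)
    obtain ⟨w, hw⟩ := (Finset.mem_filter.1 hmem).2
    obtain ⟨-, hiw, -⟩ := h'.1.par_eq hw
    rcases eq_or_ne w v with rfl | hwv
    · rw [he, hw]
    have hwu : w = par ends c v := by
      rw [hp]
      rcases hi.ends_eq with h1 | h1 <;> rcases hiw.ends_eq with h2 | h2 <;> rw [h1, Prod.mk.injEq] at h2
      · exact absurd h2.1.symm hwv
      · exact h2.2.symm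
      · exact h2.1.symm
      · exact absurd h2.2.symm hwv
    rw [hwu, ← hu] at hw
    have := h.injective hw he
    rw [hwu, this] at hwv
    exact absurd rfl hwv

lemma exists_rooted {T : Finset E} (hT : IsSpanningTree ends T) (r : V) :
    ∃ c : V → Option E, Rooted ends r c ∧ treeOf c = T := by
  classical
  rw [isSpanningTree_iff] at hT
  obtain ⟨⟨-, hreach⟩, hac⟩ := hT
  let S : ℕ → V → Prop := fun n => Nat.rec (fun v => v = r)
    (fun _ S v => ∃ u, S u ∧ ∃ e ∈ T, ends e = (v, u) ∨ ends e = (u, v)) n
  have hex : ∀ v, ∃ n, S n v := by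
    intro v
    have := (reach_iff_adj T).2 (hreach v r)
    induction this using Relation.ReflTransGen.head_induction_on with
    | refl => exact ⟨0, rfl⟩
    | head hab _ ih =>
      obtain ⟨n, hn⟩ := ih
      obtain ⟨d, hd⟩ := hab
      exact ⟨n + 1, _, hn, d.1, d.2, hd⟩
  have hdec : ∀ v, DecidablePred fun n => S n v := fun v => Classical.decPred _
  let d : V → ℕ := fun v => @Nat.find (fun n => S n v) (hdec v) (hex v)
  have hstep : ∀ v, v ≠ r → ∃ e, e ∈ T ∧ IncAt ends v e ∧ d (oth ends v e) < d v := by
    intro v hv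
    have hs : S (d v) v := @Nat.find_spec (fun n => S n v) (hdec v) (hex v)
    rcases hd : d v with _ | k
    · rw [hd] at hs; exact absurd hs hv
    rw [hd] at hs
    obtain ⟨u, hu, e, he, hev⟩ := hs
    have hdu : d u ≤ k := @Nat.find_min' (fun n => S n u) (hdec u) (hex u) k hu
    have hne : u ≠ v := fun h => by rw [h] at hdu; omega
    refine ⟨e, he, ?_⟩
    rcases hev with h | h
    · refine ⟨⟨Or.inl (by rw [h]), by rw [h]; exact hne.symm⟩, ?_⟩
      rw [oth, if_pos (by rw [h]), h]; simp only; omega
    · refine ⟨⟨Or.inr (by rw [h]), by rw [h]; exact hne⟩, ?_⟩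
      rw [oth, if_neg (by rw [h]; exact hne), h]; simp only; omega
  choose g hg using hstep
  let c : V → Option E := fun v => if h : v = r then none else some (g v h)
  have hval : Valid ends r c := ⟨by simp [c], fun v hv => ⟨g v hv, by simp [c, hv], (hg v hv).2.1⟩⟩
  have hroot : Rooted ends r c := by
    refine ⟨hval, fun v => ?_⟩
    induction hn : d v using Nat.strong_induction_on generalizing v with
    | h n ih =>
      by_cases hv : v = r
      · exact ⟨0, hv⟩
      · obtain ⟨k, hk⟩ := ih _ (hn ▸ (hg v hv).2.2) _ rfl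
        refine ⟨k + 1, ?_⟩
        rw [Function.iterate_succ_apply, show par ends c v = oth ends v (g v hv) by simp [par, c, hv]]
        exact hk
  refine ⟨c, hroot, ?_⟩
  have hsub : treeOf c ⊆ T := fun e he => by
    obtain ⟨v, hv⟩ := (Finset.mem_filter.1 he).2
    by_cases h : v = r
    · simp [c, h] at hv
    · simp only [c, dif_neg h, Option.some.injEq] at hv
      exact hv ▸ (hg v h).1
  refine Finset.Subset.antisymm hsub fun e he => ?_
  by_contra hne
  obtain ⟨C, hC, hC'⟩ := exists_circuit_of_reach ends hne
    (Relation.EqvGen.trans _ _ _ (hroot.reach (ends e).1) (Relation.EqvGen.symm _ _ (hroot.reach (ends e).2)))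
  exact hac C (hC.trans (Finset.insert_subset he hsub)) hC'

/-- Row of a parent choice, with its weight. -/
def choiceRow (x : E → ℤ) (v : V) : Option E → V → ℤ
  | none => fun j => if v = r then (if j = r then 1 else 0) else 0
  | some e => fun j => if v ≠ r ∧ ((ends e).1 = v ∨ (ends e).2 = v) ∧ (ends e).1 ≠ (ends e).2 then
      x e * ((if j = v then 1 else 0) - (if j = oth ends v e then 1 else 0)) else 0

variable (ends r) in
lemma det_choice (x : E → ℤ) (c : V → Option E) [Decidable (Rooted ends r c)] :
    Matrix.det (Matrix.of fun v => choiceRow (ends := ends) (r := r) x v (c v)) =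
      if Rooted ends r c then ∏ e ∈ treeOf c, x e else 0 := by
  classical
  set M : Matrix V V ℤ := Matrix.of fun v => choiceRow (ends := ends) (r := r) x v (c v) with hM
  by_cases hval : Valid ends r c
  swap
  · rw [if_neg fun h => hval h.1]
    simp only [Valid, not_and_or, not_forall] at hval
    rcases hval with h | ⟨v, hv, h⟩
    · refine Matrix.det_eq_zero_of_row_eq_zero r fun j => ?_
      obtain ⟨e, he⟩ := Option.ne_none_iff_exists'.1 h
      simp [hM, he, choiceRow]
    · refine Matrix.det_eq_zero_of_row_eq_zero v fun j => ?_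
      rcases hc : c v with _ | e
      · simp [hM, hc, choiceRow, hv]
      · simp only [hM, Matrix.of_apply, hc, choiceRow]
        rw [if_neg fun hh => h ⟨e, hc, hh.2⟩]
  have hrow : ∀ v, v ≠ r → ∀ e, c v = some e → ∀ j, M v j =
      x e * ((if j = v then 1 else 0) - (if j = par ends c v then 1 else 0)) := by
    intro v hv e he j
    obtain ⟨-, hi, hp⟩ := hval.par_eq he
    simp only [hM, Matrix.of_apply, he, choiceRow]
    rw [if_pos ⟨hv, hi⟩, hp]
  have hrowr : ∀ j, M r j = if j = r then 1 else 0 := fun j => by simp [hM, hval.1, choiceRow]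
  by_cases hroot : Rooted ends r c
  · rw [if_pos hroot, Matrix.det_apply', Finset.sum_eq_single (1 : Equiv.Perm V)]
    · simp only [Equiv.Perm.sign_one, Units.val_one, Int.cast_one, one_mul, Equiv.Perm.coe_one, id_eq]
      rw [← Finset.prod_subset (Finset.subset_univ (univ.erase r)) (fun v _ hv => by
        obtain rfl : v = r := by simpa using hv
        simp [hrowr])]
      refine Finset.prod_bij (fun v hv => (hval.2 v (Finset.ne_of_mem_erase hv)).choose) (fun v hv => ?_)
        (fun v hv w hw hvw => ?_) (fun e he => ?_) (fun v hv => ?_)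
      · simp only [treeOf, mem_filter, mem_univ, true_and]
        exact ⟨v, (hval.2 v (Finset.ne_of_mem_erase hv)).choose_spec.1⟩
      · exact hroot.injective (hval.2 v (Finset.ne_of_mem_erase hv)).choose_spec.1
          (hvw ▸ (hval.2 w (Finset.ne_of_mem_erase hw)).choose_spec.1)
      · obtain ⟨v, hv⟩ := (Finset.mem_filter.1 he).2
        have hvr := (hval.par_eq hv).1
        refine ⟨v, by simp [hvr], ?_⟩
        have := (hval.2 v hvr).choose_spec.1
        exact (Option.some.inj (hv.symm.trans this)).symm
      · have hvr := Finset.ne_of_mem_erase hv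
        have he := (hval.2 v hvr).choose_spec.1
        obtain ⟨-, hi, hp⟩ := hval.par_eq he
        rw [hrow v hvr _ he, hp]
        simp [(hi.oth_ne).symm]
    · intro σ _ hσ
      by_contra hne
      have hne' : ∀ i, M (σ i) i ≠ 0 := fun i h0 => hne
        (mul_eq_zero.2 (Or.inr (Finset.prod_eq_zero (Finset.mem_univ i) h0)))
      have hd : ∀ i, i ≠ σ i → hroot.depth i < hroot.depth (σ i) := by
        intro i hi
        by_cases hr : σ i = r
        · have := hne' i
          rw [hr, hrowr] at this
          simp only [ne_eq, ite_eq_right_iff, one_ne_zero, imp_false, not_not] at this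
          exact absurd (this.trans hr.symm) hi
        · obtain ⟨e, he, -⟩ := hval.2 _ hr
          have := hne' i
          rw [hrow _ hr e he] at this
          have hip : i = par ends c (σ i) := by
            by_contra hp
            simp [hi, hp] at this
          have h2 := hroot.depth_par_lt hr
          rw [← hip] at h2
          exact h2
      obtain ⟨i, hi⟩ : ∃ i, i ≠ σ i := by
        by_contra h
        push Not at h
        exact hσ (Equiv.ext fun i => (h i).symm)
      have := Equiv.sum_comp σ hroot.depth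
      have hlt : ∑ j, hroot.depth j < ∑ j, hroot.depth (σ j) := by
        refine Finset.sum_lt_sum (fun j _ => ?_) ⟨i, Finset.mem_univ _, hd i hi⟩
        by_cases h : j = σ j
        · rw [← h]
        · exact (hd j h).le
      omega
    · simp
  · rw [if_neg hroot, ← Matrix.exists_mulVec_eq_zero_iff]
    obtain ⟨v₀, hv₀⟩ : ∃ v, ∀ k : ℕ, (par ends c)^[k] v ≠ r := by
      by_contra h
      push Not at h
      exact hroot ⟨hval, h⟩
    refine ⟨fun v => if ∀ k : ℕ, (par ends c)^[k] v ≠ r then 1 else 0, fun h => ?_, ?_⟩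
    · have := congrFun h v₀
      rw [if_pos hv₀] at this
      exact one_ne_zero this
    funext v
    simp only [Matrix.mulVec, dotProduct, Pi.zero_apply]
    by_cases hv : v = r
    · subst hv
      simp only [hrowr, ite_mul, one_mul, zero_mul, Finset.sum_ite_eq', Finset.mem_univ, if_true]
      rw [if_neg]
      exact fun h => h 0 rfl
    · obtain ⟨e, he, -⟩ := hval.2 v hv
      simp only [hrow v hv e he, mul_assoc, ← Finset.mul_sum, sub_mul, ite_mul, one_mul, zero_mul,
        Finset.sum_sub_distrib, Finset.sum_ite_eq', Finset.mem_univ, if_true]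
      have hiff : (∀ k : ℕ, (par ends c)^[k] v ≠ r) ↔ ∀ k : ℕ, (par ends c)^[k] (par ends c v) ≠ r := by
        constructor
        · exact fun h k => h (k + 1)
        · intro h k
          cases k with
          | zero => exact hv
          | succ k => exact h k
      rw [if_congr hiff rfl rfl, sub_self, mul_zero]

variable (ends r) in
open Classical in
/-- Weighted matrix-tree theorem, with the root row replaced by a unit vector. -/
theorem matrix_tree (x : E → ℤ) :
    Matrix.det (Matrix.of fun v => ∑ o : Option E, choiceRow (ends := ends) (r := r) x v o) =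
      ∑ T ∈ univ.powerset.filter (fun T : Finset E => IsSpanningTree ends T), ∏ e ∈ T, x e := by
  have h := (Matrix.detRowAlternating (n := V) (R := ℤ)).toMultilinearMap.map_sum
    (fun v (o : Option E) => choiceRow (ends := ends) (r := r) x v o)
  refine h.trans ?_
  refine Eq.trans (Finset.sum_congr rfl fun c _ => det_choice ends r x c) ?_
  rw [← Finset.sum_filter]
  refine Finset.sum_bij (fun c _ => treeOf c) (fun c hc => ?_) (fun c hc c' hc' he => ?_) (fun T hT => ?_)
    (fun c _ => rfl)
  · simpa using (Finset.mem_filter.1 hc).2.spanning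
  · exact (Finset.mem_filter.1 hc).2.ext (Finset.mem_filter.1 hc').2 he
  · obtain ⟨c, hc, hT'⟩ := exists_rooted (Finset.mem_filter.1 hT).2 r
    exact ⟨c, by simpa using hc, hT'⟩

end Groth.Agent.LabGraphLead
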