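import Groth.Agent.LabGraphLead.Chain
import Groth.Agent.LabGraphLead.TreeDet

/-! The order of the component group of a multigraph with multiplicity function. -/

set_option autoImplicit false

universe u

namespace Groth.Agent.LabGraphLead

open LabGraph Finset Matrix

variable {V E : Type u} [Fintype V] [Fintype E] [DecidableEq V] [DecidableEq E]
variable (ends : E → V × V) (β : V → ℤ)

lemma mfMatrix_symm : (mfMatrix ends β).IsSymm := by
  ext v w
  rw [transpose_apply, mfMatrix, mfMatrix]
  by_cases h : v = w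
  · subst h; rfl
  · rw [if_neg h, if_neg (Ne.symm h)]
    congr 1
    simp only [edgeMult]
    congr 1
    ext e
    simp [or_comm]

lemma mulVec_beta (hβ : IsMultFn ends β) : (mfMatrix ends β).mulVec β = 0 := by
  funext v
  rw [mulVec_eq, diag_mul ends β hβ]
  simp

lemma kernel_prop (hβ : IsMultFn ends β) (hG : Connected ends) (z : V → ℤ)
    (hz : (mfMatrix ends β).mulVec z = 0) (a b : V) : z a * β b = z b * β a := by
  obtain ⟨v, -, hv⟩ := Finset.exists_max_image univ (fun w => (z w : ℚ) / β w) ⟨a, Finset.mem_univ a⟩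
  suffices h : ∀ w, z w * β v = z v * β w by
    have hv0 : β v ≠ 0 := (hβ v).1.ne'
    refine mul_right_cancel₀ hv0 ?_
    linear_combination β b * h a - β a * h b
  have hle : ∀ w, z w * β v ≤ z v * β w := fun w => by
    have := hv w (Finset.mem_univ w)
    rw [div_le_div_iff₀ (by exact_mod_cast (hβ w).1) (by exact_mod_cast (hβ v).1)] at this
    exact_mod_cast this
  intro w
  induction hG.2 v w with
  | refl => rfl
  | @tail p q _ hpq ih =>
    have hp : ∀ x, z x * β p ≤ z p * β x := fun x => by
      refine le_of_mul_le_mul_right ?_ (hβ v).1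
      have h1 := mul_le_mul_of_nonneg_left (hle x) (hβ p).1.le
      linear_combination h1 - β x * ih
    let g : V → ℤ := fun x => z x * β p - z p * β x
    have hg : nb ends g p = 0 := by
      have h1 : (mfMatrix ends β).mulVec z p * β p = 0 := by rw [hz]; simp
      rw [mulVec_eq, add_mul, mul_right_comm, diag_mul ends β hβ] at h1
      have h2 : nb ends g p = β p * nb ends z p - z p * nb ends β p := by
        simp only [nb, Finset.mul_sum, ← Finset.sum_sub_distrib]
        refine Finset.sum_congr rfl fun e _ => ?_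
        simp only [nbTerm, g, mul_add, mul_ite, mul_zero]
        split_ifs <;> ring
      rw [h2]
      linarith
    have hnp : ∀ e ∈ (univ : Finset E), nbTerm ends g p e ≤ 0 := fun e _ => by
      simp only [nbTerm]
      refine add_nonpos ?_ ?_ <;> split <;> simp [g, hp]
    have h0 := (Finset.sum_eq_zero_iff_of_nonpos hnp).1 hg
    have hq : g q = 0 := by
      by_cases hqp : q = p
      · simp [g, hqp]
      · obtain ⟨e, he | he⟩ := hpq
        · simpa [nbTerm, he, hqp, Ne.symm hqp] using h0 e (Finset.mem_univ e)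
        · simpa [nbTerm, he, hqp, Ne.symm hqp] using h0 e (Finset.mem_univ e)
    refine mul_right_cancel₀ (hβ p).1.ne' ?_
    simp only [g] at hq
    linear_combination β v * hq + β q * ih

variable {ends β}

lemma exists_gcd_data (hβ : IsMultFn ends β) [Nonempty V] :
    ∃ (β' u : V → ℤ), (∀ v, β v = univ.gcd β * β' v) ∧ 0 < univ.gcd β ∧ ∑ v, u v * β' v = 1 := by
  obtain ⟨v₀⟩ := ‹Nonempty V›
  have hm0 : univ.gcd β ≠ 0 := fun h => (hβ v₀).1.ne' (Finset.gcd_eq_zero_iff.1 h v₀ (Finset.mem_univ _))
  have hmpos : 0 < univ.gcd β := lt_of_le_of_ne (Int.nonneg_of_normalize_eq_self (Finset.normalize_gcd (s := univ) (f := β))) (Ne.symm hm0)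
  choose β' hβ' using fun v : V => Finset.gcd_dvd (f := β) (Finset.mem_univ v)
  obtain ⟨g, hg⟩ := (IsPrincipalIdealRing.principal (Ideal.span (Set.range β))).principal
  have hgd : g ∣ univ.gcd β := Finset.dvd_gcd fun v _ => by
    have : β v ∈ Ideal.span (Set.range β) := Ideal.subset_span ⟨v, rfl⟩
    rw [hg, Submodule.mem_span_singleton] at this
    obtain ⟨k, hk⟩ := this
    exact ⟨k, by rw [← hk, smul_eq_mul, mul_comm]⟩
  have hmem : univ.gcd β ∈ Ideal.span (Set.range β) := by
    rw [hg, Submodule.mem_span_singleton]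
    obtain ⟨k, hk⟩ := hgd
    exact ⟨k, by rw [hk, smul_eq_mul, mul_comm]⟩
  obtain ⟨u, hu⟩ := (Ideal.mem_span_range_iff_exists_fun).1 hmem
  refine ⟨β', u, hβ', hmpos, mul_left_cancel₀ hm0 ?_⟩
  rw [mul_one, Finset.mul_sum]
  refine Eq.trans ?_ hu
  exact Finset.sum_congr rfl fun v _ => by rw [hβ' v]; ring

variable (ends β) in
/-- The matrix `α + u uᵀ`. -/
def bordered (u : V → ℤ) : Matrix V V ℤ := mfMatrix ends β + Matrix.of fun i j => u i * u j

lemma bordered_mulVec (u z : V → ℤ) :
    (bordered ends β u).mulVec z = (mfMatrix ends β).mulVec z + (∑ j, u j * z j) • u := by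
  funext i
  simp only [bordered, Matrix.add_mulVec, Pi.add_apply, Pi.smul_apply, smul_eq_mul, Finset.sum_mul]
  congr 1
  simp only [Matrix.mulVec, dotProduct, Matrix.of_apply]
  exact Finset.sum_congr rfl fun j _ => by ring

section data

variable {β' u : V → ℤ} {m : ℤ} (hβ : IsMultFn ends β) (hG : Connected ends)
  (hm : ∀ v, β v = m * β' v) (hm0 : 0 < m) (hu : ∑ v, u v * β' v = 1)
include hβ hm hm0 hu

lemma mulVec_beta' : (mfMatrix ends β).mulVec β' = 0 := by
  have h := mulVec_beta ends β hβ
  rw [show β = m • β' from funext hm, Matrix.mulVec_smul, smul_eq_zero] at h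
  have := h.resolve_left hm0.ne'
  rwa [← show β = m • β' from funext hm] at this

lemma bordered_beta' : (bordered ends β u).mulVec β' = u := by
  rw [bordered_mulVec, mulVec_beta' hβ hm hm0 hu, hu, one_smul, zero_add]

lemma beta'_mulVec (z : V → ℤ) : ∑ v, β' v * (mfMatrix ends β).mulVec z v = 0 := by
  have h := sum_beta_mulVec ends β hβ z
  rw [show (∑ v, (mfMatrix ends β).mulVec z v * β v) = m * ∑ v, β' v * (mfMatrix ends β).mulVec z v from by
    rw [Finset.mul_sum]; exact Finset.sum_congr rfl fun v _ => by rw [hm v]; ring] at h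
  exact (mul_eq_zero.1 h).resolve_left hm0.ne'

lemma beta'_bordered (z : V → ℤ) : ∑ v, β' v * (bordered ends β u).mulVec z v = ∑ j, u j * z j := by
  simp only [bordered_mulVec, Pi.add_apply, Pi.smul_apply, smul_eq_mul, mul_add, Finset.sum_add_distrib,
    beta'_mulVec hβ hm hm0 hu, zero_add]
  calc ∑ v, β' v * ((∑ j, u j * z j) * u v) = (∑ j, u j * z j) * ∑ v, u v * β' v := by
        rw [Finset.mul_sum]; exact Finset.sum_congr rfl fun v _ => by ring
    _ = _ := by rw [hu, mul_one]

include hG in
lemma bordered_injective : Function.Injective (bordered ends β u).mulVecLin := by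
  rw [← LinearMap.ker_eq_bot, eq_bot_iff]
  intro z hz
  rw [LinearMap.mem_ker, Matrix.mulVecLin_apply] at hz
  rw [Submodule.mem_bot]
  have h1 : ∑ j, u j * z j = 0 := by rw [← beta'_bordered hβ hm hm0 hu z, hz]; simp
  rw [bordered_mulVec, h1, zero_smul, add_zero] at hz
  funext v
  have h2 : ∀ w, z v * β' w = z w * β' v := fun w => by
    refine mul_left_cancel₀ hm0.ne' ?_
    have := kernel_prop ends β hβ hG z hz v w
    rw [hm v, hm w] at this
    linear_combination this
  calc z v = z v * ∑ w, u w * β' w := by rw [hu, mul_one]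
    _ = β' v * ∑ w, u w * z w := by
      simp only [Finset.mul_sum]; exact Finset.sum_congr rfl fun w _ => by linear_combination u w * h2 w
    _ = 0 := by rw [h1, mul_zero]

include hG in
lemma card_compGrp : Nat.card (CompGrp ends β) = (bordered ends β u).det.natAbs := by
  classical
  set P := bordered ends β u
  let N := LinearMap.range P.mulVecLin
  have h1 := Submodule.natAbs_det_equiv N (LinearEquiv.ofInjective P.mulVecLin (bordered_injective hβ hG hm hm0 hu))
  have h2 : N.subtype ∘ₗ AddMonoidHom.toIntLinearMap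
      ((LinearEquiv.ofInjective P.mulVecLin (bordered_injective hβ hG hm hm0 hu) : (V → ℤ) ≃ₗ[ℤ] N) : (V → ℤ) →+ N) =
      Matrix.toLin' P := LinearMap.ext fun z => rfl
  rw [h2, LinearMap.det_toLin'] at h1
  rw [h1]
  have hmap : (LinearMap.range (Matrix.mulVecLin (mfMatrix ends β))).comap (LinearMap.ker (betaHom β)).subtype ≤
      N.comap (LinearMap.ker (betaHom β)).subtype := by
    rintro x ⟨z, hz⟩
    refine ⟨z - (∑ j, u j * z j) • β', ?_⟩
    rw [Matrix.mulVecLin_apply, Matrix.mulVec_sub, Matrix.mulVec_smul, bordered_beta' hβ hm hm0 hu,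
      bordered_mulVec, add_sub_cancel_right]
    simpa using hz
  refine Nat.card_congr (Equiv.ofBijective (Submodule.mapQ _ N (LinearMap.ker (betaHom β)).subtype hmap)
    ⟨?_, fun q => ?_⟩)
  · rw [← LinearMap.ker_eq_bot, eq_bot_iff]
    intro q hq
    obtain ⟨x, rfl⟩ := Submodule.Quotient.mk_surjective _ q
    rw [LinearMap.mem_ker, Submodule.mapQ_apply, Submodule.Quotient.mk_eq_zero] at hq
    obtain ⟨z, hz⟩ := hq
    rw [Submodule.mem_bot, Submodule.Quotient.mk_eq_zero]
    refine ⟨z, ?_⟩
    have hx : ∑ v, β' v * x.1 v = 0 := by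
      have h : ∑ v, x.1 v * β v = 0 := by
        have h' := LinearMap.mem_ker.1 x.2
        simp only [betaHom, Fintype.linearCombination_apply, smul_eq_mul] at h'
        exact h'
      rw [show (∑ v, x.1 v * β v) = m * ∑ v, β' v * x.1 v from by
        rw [Finset.mul_sum]; exact Finset.sum_congr rfl fun v _ => by rw [hm v]; ring] at h
      exact (mul_eq_zero.1 h).resolve_left hm0.ne'
    have hz' : P.mulVec z = x.1 := by simpa using hz
    have h0 : ∑ j, u j * z j = 0 := by rw [← beta'_bordered hβ hm hm0 hu z, hz', hx]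
    rw [bordered_mulVec, h0, zero_smul, add_zero] at hz'
    simpa using hz'
  · obtain ⟨w, rfl⟩ := Submodule.Quotient.mk_surjective _ q
    let t := ∑ v, β' v * w v
    have hw : w - t • u ∈ LinearMap.ker (betaHom β) := by
      rw [LinearMap.mem_ker]
      simp only [betaHom, Fintype.linearCombination_apply, smul_eq_mul, Pi.sub_apply, Pi.smul_apply]
      calc ∑ v, (w v - t * u v) * β v = m * (∑ v, β' v * w v) - m * t * ∑ v, u v * β' v := by
            simp only [Finset.mul_sum, ← Finset.sum_sub_distrib]
            exact Finset.sum_congr rfl fun v _ => by rw [hm v]; ring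
        _ = 0 := by rw [hu]; ring
    refine ⟨Submodule.Quotient.mk ⟨w - t • u, hw⟩, ?_⟩
    rw [Submodule.mapQ_apply, Submodule.Quotient.eq]
    refine ⟨-(t • β'), ?_⟩
    rw [Matrix.mulVecLin_apply, Matrix.mulVec_neg, Matrix.mulVec_smul, bordered_beta' hβ hm hm0 hu]
    simp

include hG in
lemma det_bordered_mul (r : V) :
    (bordered ends β u).det * β' r ^ 2 = (mfMatrix ends β).adjugate r r := by
  classical
  set α := mfMatrix ends β
  set P := bordered ends β u with hP
  have hβ'0 : ∀ v, β' v ≠ 0 := fun v h => (hβ v).1.ne' (by rw [hm v, h, mul_zero])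
  have h1 : P.det * β' r = (P.updateCol r u).det := by
    rw [← Matrix.cramer_apply, Matrix.cramer_eq_adjugate_mulVec]
    conv_rhs => rw [← bordered_beta' hβ hm hm0 hu, Matrix.mulVec_mulVec, Matrix.adjugate_mul,
      Matrix.smul_mulVec, Matrix.one_mulVec]
    simp [hP]
  have h2 : (P.updateCol r u).det = (α.updateCol r u).det := by
    rw [← Matrix.det_transpose, ← Matrix.det_transpose (α.updateCol r u)]
    refine Matrix.det_eq_of_forall_row_eq_smul_add_const (fun i => if i = r then 0 else u i) r (if_pos rfl) fun i j => ?_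
    by_cases hi : i = r
    · subst hi; simp
    · simp [Matrix.updateCol_apply, hi, hP, bordered, mul_comm]
      rfl
  have h3 : ∀ v, α.adjugate r v * β' r = α.adjugate r r * β' v := by
    intro v
    have hdet : α.det = 0 := Matrix.exists_mulVec_eq_zero_iff.1
      ⟨β, fun h => (hβ r).1.ne' (congrFun h r), mulVec_beta ends β hβ⟩
    have hy : α.mulVec (fun w => α.adjugate r w) = 0 := by
      funext i
      have := congrFun (congrFun (Matrix.adjugate_mul α) r) i
      simp only [hdet, zero_smul, Matrix.zero_apply, Matrix.mul_apply] at this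
      rw [Pi.zero_apply, ← this]
      simp only [Matrix.mulVec, dotProduct]
      exact Finset.sum_congr rfl fun w _ => by rw [show α i w = α w i from (mfMatrix_symm ends β).apply w i]; ring
    have := kernel_prop ends β hβ hG _ hy v r
    rw [hm v, hm r] at this
    refine mul_left_cancel₀ hm0.ne' ?_
    linear_combination this
  have h4 : (α.updateCol r u).det * β' r = α.adjugate r r := by
    rw [← Matrix.cramer_apply, Matrix.cramer_eq_adjugate_mulVec]
    simp only [Matrix.mulVec, dotProduct, Finset.sum_mul]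
    calc ∑ v, α.adjugate r v * u v * β' r = α.adjugate r r * ∑ v, u v * β' v := by
          rw [Finset.mul_sum]
          exact Finset.sum_congr rfl fun v _ => by linear_combination u v * h3 v
      _ = _ := by rw [hu, mul_one]
  rw [← h4, ← h2, ← h1]
  ring

end data

open Classical in
lemma tree_sum_eq (hβ : IsMultFn ends β) (r : V) :
    ∑ T ∈ univ.powerset.filter (fun T : Finset E => IsSpanningTree ends T), ∏ e ∈ T, β (ends e).1 * β (ends e).2 =
      (∏ v ∈ univ.erase r, β v) ^ 2 * ((-1) ^ (Fintype.card V - 1) * (mfMatrix ends β).adjugate r r) := by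
  rw [← matrix_tree ends r (fun e => β (ends e).1 * β (ends e).2)]
  have hM : (Matrix.of fun v => ∑ o : Option E, choiceRow (ends := ends) (r := r) (fun e => β (ends e).1 * β (ends e).2) v o) =
      (Matrix.diagonal β * (((-1 : ℤ)) • mfMatrix ends β) * Matrix.diagonal β).updateRow r (Pi.single r 1) := by
    ext v j
    simp only [Matrix.of_apply, Fintype.sum_option, Pi.add_apply, Finset.sum_apply]
    by_cases hv : v = r
    · subst hv
      rw [Matrix.updateRow_self, Finset.sum_eq_zero fun e _ => by simp [choiceRow], add_zero]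
      simp [choiceRow, Pi.single_apply]
    · rw [Matrix.updateRow_ne hv, Matrix.mul_diagonal, Matrix.diagonal_mul]
      simp only [choiceRow, Matrix.smul_apply, smul_eq_mul, ne_eq, hv, not_false_eq_true, true_and, if_false, zero_add]
      by_cases hj : j = v
      · subst hj
        rw [show β j * (-1 * mfMatrix ends β j j) * β j = -(mfMatrix ends β j j * β j) * β j by ring,
          diag_mul ends β hβ, neg_neg, nb, Finset.sum_mul]
        refine Finset.sum_congr rfl fun e _ => ?_
        obtain ⟨a, b, hab⟩ : ∃ a b, ends e = (a, b) := ⟨_, _, rfl⟩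
        simp only [nbTerm, oth, hab]
        by_cases ha : a = j <;> by_cases hb : b = j
        · simp [ha, hb]
        · simp [ha, hb, Ne.symm hb]; ring
        · simp [ha, hb, Ne.symm ha]
        · simp [ha, hb]
      · rw [mfMatrix, if_neg (Ne.symm hj), edgeMult, Finset.natCast_card_filter, Finset.mul_sum, Finset.mul_sum,
          Finset.sum_mul]
        refine Finset.sum_congr rfl fun e _ => ?_
        obtain ⟨a, b, hab⟩ : ∃ a b, ends e = (a, b) := ⟨_, _, rfl⟩
        simp only [oth, hab, Prod.mk.injEq]
        by_cases ha : a = v <;> by_cases hb : b = v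
        · simp [ha, hb, Ne.symm hj]
        · by_cases hbj : b = j
          · subst hbj; simp [ha, hj, Ne.symm hj]
          · simp [ha, hb, hj, hbj, Ne.symm hb, Ne.symm hbj]
        · by_cases haj : a = j
          · subst haj; simp [hb, hj, Ne.symm hj]; ring
          · simp [ha, hb, hj, haj, Ne.symm haj, Ne.symm hj]
        · simp [ha, hb]
  rw [hM, ← Matrix.adjugate_apply, Matrix.adjugate_mul_distrib, Matrix.adjugate_mul_distrib,
    Matrix.adjugate_diagonal, Matrix.diagonal_mul, Matrix.mul_diagonal, Matrix.adjugate_smul, Matrix.smul_apply,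
    smul_eq_mul]
  ring

lemma nbrCount_eq {T : Finset E} (hT : Acyclic ends T) (v : V) : nbrCount ends T v = endCount ends T v := by
  have hloop : ∀ e ∈ T, (ends e).1 ≠ (ends e).2 := fun e he h => by
    obtain ⟨C, hC, hC'⟩ := exists_circuit_of_reach ends (F := ∅) (Finset.notMem_empty e)
      (h ▸ Relation.EqvGen.refl _)
    exact hT C (fun x hx => by have := hC hx; simp at this; exact this ▸ he) hC'
  have hend : endCount ends T v = (T.filter fun e => (ends e).1 = v ∨ (ends e).2 = v).card := by
    rw [endCount, Finset.card_filter]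
    refine Finset.sum_congr rfl fun e he => ?_
    by_cases h1 : (ends e).1 = v <;> by_cases h2 : (ends e).2 = v <;> simp [h1, h2]
    exact hloop e he (h1.trans h2.symm)
  rw [hend, nbrCount]
  symm
  refine Finset.card_bij (fun e _ => oth ends v e) (fun e he => ?_) (fun e he e' he' h => ?_) (fun w hw => ?_)
  · rw [Finset.mem_filter] at he
    have hi : IncAt ends v e := ⟨he.2, hloop e he.1⟩
    exact Finset.mem_filter.2 ⟨Finset.mem_univ _, hi.oth_ne, e, he.1, hi.ends_eq⟩
  · rw [Finset.mem_filter] at he he'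
    by_contra hne
    have hi : IncAt ends v e := ⟨he.2, hloop e he.1⟩
    have hi' : IncAt ends v e' := ⟨he'.2, hloop e' he'.1⟩
    have hr : Reach ends {e'} (ends e).1 (ends e).2 := by
      have h' : Reach ends {e'} v (oth ends v e) := by
        rw [h]
        rcases hi'.ends_eq with h1 | h1
        · exact Relation.EqvGen.rel _ _ ⟨e', by simp, h1⟩
        · exact Relation.EqvGen.symm _ _ (Relation.EqvGen.rel _ _ ⟨e', by simp, h1⟩)
      rcases hi.ends_eq with h1 | h1 <;> rw [h1]
      · exact h'
      · exact Relation.EqvGen.symm _ _ h'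
    obtain ⟨C, hC, hC'⟩ := exists_circuit_of_reach ends (by simpa using hne) hr
    exact hT C (fun x hx => by
      have := hC hx; simp at this; rcases this with rfl | rfl
      · exact he.1
      · exact he'.1) hC'
  · obtain ⟨-, hwv, e, he, hev⟩ := Finset.mem_filter.1 hw
    refine ⟨e, Finset.mem_filter.2 ⟨he, ?_⟩, ?_⟩
    · rcases hev with h | h <;> simp [h]
    · rcases hev with h | h <;> simp [oth, h, hwv]

lemma prod_beta_pow (β : V → ℤ) (T : Finset E) :
    ∏ v, β v ^ endCount ends T v = ∏ e ∈ T, β (ends e).1 * β (ends e).2 := by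
  simp only [endCount, ← Finset.prod_pow_eq_pow_sum]
  rw [Finset.prod_comm]
  refine Finset.prod_congr rfl fun e _ => ?_
  simp only [pow_add, Finset.prod_mul_distrib, pow_ite, pow_one, pow_zero, Finset.prod_ite_eq, Finset.mem_univ, if_true]

open Classical in
theorem card_compGrp_eq (hβ : IsMultFn ends β) (hG : Connected ends) :
    (Nat.card (CompGrp ends β) : ℚ) =
      ((univ.gcd β : ℤ) : ℚ) ^ 2 *
        ∑ T ∈ univ.powerset.filter (fun T : Finset E => IsSpanningTree ends T),
          ∏ v : V, ((β v : ℚ) ^ ((nbrCount ends T v : ℤ) - 2)) := by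
  have := hG.1
  obtain ⟨r⟩ := hG.1
  obtain ⟨β', u, hm, hm0, hu⟩ := exists_gcd_data hβ
  set S : ℤ := ∑ T ∈ univ.powerset.filter (fun T : Finset E => IsSpanningTree ends T),
    ∏ e ∈ T, β (ends e).1 * β (ends e).2 with hS
  have hS0 : 0 ≤ S := Finset.sum_nonneg fun T _ => Finset.prod_nonneg fun e _ =>
    mul_nonneg (hβ _).1.le (hβ _).1.le
  have h1 := tree_sum_eq hβ r
  rw [← hS, ← det_bordered_mul hβ hG hm hm0 hu r] at h1
  have h2 := congrArg Int.natAbs h1
  rw [Int.natAbs_mul, Int.natAbs_mul, Int.natAbs_mul, Int.natAbs_pow, Int.natAbs_pow (-1),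
    ← card_compGrp hβ hG hm hm0 hu] at h2
  simp only [Int.natAbs_neg, Int.natAbs_one, one_pow, one_mul] at h2
  have h3 := congrArg (Nat.cast : ℕ → ℤ) h2
  rw [Int.natAbs_of_nonneg hS0] at h3
  push_cast [Int.natAbs_pow] at h3
  rw [sq_abs, sq_abs] at h3
  have h4 : (Nat.card (CompGrp ends β) : ℤ) * (∏ v, β v) ^ 2 = univ.gcd β ^ 2 * S := by
    rw [h3, ← Finset.mul_prod_erase univ β (Finset.mem_univ r), hm r]
    ring
  have h5 : (∏ v, (β v : ℚ)) ≠ 0 := Finset.prod_ne_zero_iff.2 fun v _ => by
    exact_mod_cast (hβ v).1.ne'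
  have h6 : ∀ T ∈ univ.powerset.filter (fun T : Finset E => IsSpanningTree ends T),
      ∏ v : V, ((β v : ℚ) ^ ((nbrCount ends T v : ℤ) - 2)) =
        ((∏ e ∈ T, β (ends e).1 * β (ends e).2 : ℤ) : ℚ) / (∏ v, (β v : ℚ)) ^ 2 := by
    intro T hT
    have hac := ((isSpanningTree_iff T).1 (Finset.mem_filter.1 hT).2).2
    rw [← prod_beta_pow, ← Finset.prod_pow, Int.cast_prod, ← Finset.prod_div_distrib]
    refine Finset.prod_congr rfl fun v _ => ?_
    rw [nbrCount_eq hac, zpow_sub₀ (by exact_mod_cast (hβ v).1.ne'), zpow_natCast, Int.cast_pow]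
    rfl
  rw [Finset.sum_congr rfl h6, ← Finset.sum_div, ← Int.cast_sum, ← hS, mul_div_assoc', eq_div_iff (pow_ne_zero _ h5)]
  exact_mod_cast h4

end Groth.Agent.LabGraphLead
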