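import Groth.Prelude.Def_DualGr
import Mathlib

/-! Circuits, forests and coboundaries in a finite multigraph. -/

set_option autoImplicit false

universe u

namespace Groth.Agent.LabGraphLead

open LabGraph Finset

variable {V E : Type u} [Fintype V] [Fintype E] [DecidableEq V] [DecidableEq E] (ends : E → V × V)

/-- No circuit inside `F`. -/
def Acyclic (F : Finset E) : Prop := ∀ C ⊆ F, ¬ IsCircuit ends C

/-- Reachability through edges of `F`. -/
def Reach (F : Finset E) : V → V → Prop := Relation.EqvGen fun a b => ∃ e ∈ F, ends e = (a, b)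

lemma exists_circuit_subset {C : Finset E} (hne : C.Nonempty) (he : ∀ v, Even (endCount ends C v)) :
    ∃ D ⊆ C, IsCircuit ends D := by
  induction C using Finset.strongInduction with
  | H C ih =>
    by_cases h : ∀ C' : Finset E, C' ⊂ C → C'.Nonempty → ∃ v, ¬ Even (endCount ends C' v)
    · exact ⟨C, subset_rfl, hne, he, h⟩
    · push Not at h
      obtain ⟨C', h1, h2, h3⟩ := h
      obtain ⟨D, hD, hD'⟩ := ih C' h1 h2 h3
      exact ⟨D, hD.trans h1.subset, hD'⟩

lemma endCount_symmDiff (Q R : Finset E) (v : V) :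
    (endCount ends (symmDiff Q R) v : ZMod 2) = endCount ends Q v + endCount ends R v := by
  simp only [endCount, Nat.cast_sum]
  have h1 := Finset.sum_sdiff (f := fun e => (((if (ends e).1 = v then 1 else 0) + (if (ends e).2 = v then 1 else 0) : ℕ) : ZMod 2))
    (Finset.inter_subset_left : Q ∩ R ⊆ Q)
  have h2 := Finset.sum_sdiff (f := fun e => (((if (ends e).1 = v then 1 else 0) + (if (ends e).2 = v then 1 else 0) : ℕ) : ZMod 2))
    (Finset.inter_subset_right : Q ∩ R ⊆ R)
  rw [← h1, ← h2, symmDiff_def, Finset.sup_eq_union,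
    Finset.sum_union disjoint_sdiff_sdiff, Finset.sdiff_inter_self_left, Finset.sdiff_inter_self_right]
  linear_combination (-1 : ZMod 2) * CharTwo.add_self_eq_zero
    (∑ e ∈ Q ∩ R, (((if (ends e).1 = v then 1 else 0) + (if (ends e).2 = v then 1 else 0) : ℕ) : ZMod 2))

lemma exists_join {F : Finset E} {a b : V} (h : Reach ends F a b) :
    ∃ Q ⊆ F, ∀ v, (endCount ends Q v : ZMod 2) = (if a = v then 1 else 0) + (if b = v then 1 else 0) := by
  induction h with
  | rel a b hab =>
    obtain ⟨e, he, hab⟩ := hab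
    exact ⟨{e}, by simpa using he, fun v => by simp [endCount, hab]⟩
  | refl a => exact ⟨∅, by simp, fun v => by simp [endCount, CharTwo.add_self_eq_zero]⟩
  | symm a b _ ih =>
    obtain ⟨Q, hQ, h⟩ := ih
    exact ⟨Q, hQ, fun v => by rw [h, add_comm]⟩
  | trans a b c _ _ i1 i2 =>
    obtain ⟨Q, hQ, h⟩ := i1
    obtain ⟨R, hR, h'⟩ := i2
    refine ⟨symmDiff Q R, fun x hx => ?_, fun v => ?_⟩
    · rcases Finset.mem_symmDiff.1 hx with h | h
      · exact hQ h.1
      · exact hR h.1
    · rw [endCount_symmDiff, h, h']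
      linear_combination CharTwo.add_self_eq_zero (if b = v then (1 : ZMod 2) else 0)

/-- An edge joining reachable vertices closes a circuit. -/
lemma exists_circuit_of_reach {F : Finset E} {e : E} (he : e ∉ F) (h : Reach ends F (ends e).1 (ends e).2) :
    ∃ C ⊆ insert e F, IsCircuit ends C := by
  obtain ⟨Q, hQ, hv⟩ := exists_join ends h
  obtain ⟨C, hC, hC'⟩ := exists_circuit_subset ends (C := insert e Q) (Finset.insert_nonempty _ _) fun v => by
    rw [← ZMod.natCast_eq_zero_iff_even, endCount, Finset.sum_insert (fun h => he (hQ h)), Nat.cast_add,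
      show ((∑ x ∈ Q, ((if (ends x).1 = v then 1 else 0) + if (ends x).2 = v then 1 else 0) : ℕ) : ZMod 2) = _ from hv v]
    push_cast
    exact CharTwo.add_self_eq_zero _
  exact ⟨C, hC.trans (Finset.insert_subset_insert e hQ), hC'⟩

lemma Acyclic.mono {F G : Finset E} (h : Acyclic ends F) (hGF : G ⊆ F) : Acyclic ends G :=
  fun C hC => h C (hC.trans hGF)

/-- On a forest every edge vector is a coboundary. -/
lemma Acyclic.solve {F : Finset E} (hF : Acyclic ends F) (c : E → ℤ) :
    ∃ φ : V → ℤ, ∀ e ∈ F, φ (ends e).2 - φ (ends e).1 = c e := by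
  classical
  induction F using Finset.induction_on with
  | empty => exact ⟨0, by simp⟩
  | @insert e F he ih =>
    obtain ⟨φ, hφ⟩ := ih (hF.mono ends (Finset.subset_insert _ _))
    have hnr : ¬ Reach ends F (ends e).1 (ends e).2 := fun h => by
      obtain ⟨C, hC, hC'⟩ := exists_circuit_of_reach ends he h
      exact hF C hC hC'
    let t := c e - (φ (ends e).2 - φ (ends e).1)
    refine ⟨fun v => if Reach ends F (ends e).2 v then φ v + t else φ v, fun x hx => ?_⟩
    rcases Finset.mem_insert.1 hx with rfl | hx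
    · have h1 : Reach ends F (ends x).2 (ends x).2 := Relation.EqvGen.refl _
      have h2 : ¬ Reach ends F (ends x).2 (ends x).1 := fun h => hnr (Relation.EqvGen.symm _ _ h)
      simp only [h1, h2, if_true, if_false, t]
      ring
    · have hiff : Reach ends F (ends e).2 (ends x).1 ↔ Reach ends F (ends e).2 (ends x).2 :=
        ⟨fun h => Relation.EqvGen.trans _ _ _ h (Relation.EqvGen.rel _ _ ⟨x, hx, rfl⟩),
          fun h => Relation.EqvGen.trans _ _ _ h (Relation.EqvGen.symm _ _ (Relation.EqvGen.rel _ _ ⟨x, hx, rfl⟩))⟩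
      simp only [hiff]
      split <;> have := hφ x hx <;> omega

lemma boundary_pairing (γ : E → ℤ) (φ : V → ℤ) :
    ∑ v, φ v * boundary ends γ v = ∑ e, γ e * (φ (ends e).2 - φ (ends e).1) := by
  simp only [boundary, Finset.mul_sum]
  rw [Finset.sum_comm]
  refine Finset.sum_congr rfl fun e _ => ?_
  simp only [mul_sub, mul_ite, mul_zero, Finset.sum_sub_distrib, Finset.sum_ite_eq, Finset.mem_univ, if_true]
  ring

lemma cycle_orth {γ : E → ℤ} (hγ : ∀ v, boundary ends γ v = 0) (φ : V → ℤ) :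
    ∑ e, γ e * (φ (ends e).2 - φ (ends e).1) = 0 := by
  rw [← boundary_pairing]; simp [hγ]

lemma Acyclic.cycle_eq_zero {F : Finset E} (hF : Acyclic ends F) {γ : E → ℤ}
    (hγ : ∀ v, boundary ends γ v = 0) (hsupp : ∀ e ∉ F, γ e = 0) : γ = 0 := by
  obtain ⟨φ, hφ⟩ := hF.solve ends γ
  have h := cycle_orth ends hγ φ
  have h' : ∑ e, γ e * (φ (ends e).2 - φ (ends e).1) = ∑ e, γ e * γ e := Finset.sum_congr rfl fun e _ => by
    by_cases he : e ∈ F
    · rw [hφ e he]
    · simp [hsupp e he]
  rw [h', Finset.sum_eq_zero_iff_of_nonneg (fun e _ => mul_self_nonneg _)] at h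
  funext e
  exact mul_self_eq_zero.1 (h e (Finset.mem_univ e))

/-- A circuit carries a nonzero cycle. -/
lemma exists_cycle {C : Finset E} (hC : IsCircuit ends C) :
    ∃ γ : E → ℤ, (∀ v, boundary ends γ v = 0) ∧ (∀ e ∉ C, γ e = 0) ∧ γ ≠ 0 := by
  classical
  obtain ⟨hne, heven, -⟩ := hC
  let W := univ.filter fun v => endCount ends C v ≠ 0
  have hW : ∀ e ∈ C, (ends e).1 ∈ W ∧ (ends e).2 ∈ W := fun e he => by
    simp only [W, mem_filter, mem_univ, true_and, endCount, ne_eq, Finset.sum_eq_zero_iff, not_forall]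
    exact ⟨⟨e, he, by simp⟩, ⟨e, he, by simp⟩⟩
  have hcard : W.card ≤ C.card := by
    have h1 : ∑ v ∈ W, 2 ≤ ∑ v ∈ W, endCount ends C v := Finset.sum_le_sum fun v hv => by
      have := (Finset.mem_filter.1 hv).2
      obtain ⟨k, hk⟩ := heven v
      omega
    have h2 : ∑ v ∈ W, endCount ends C v = 2 * C.card := by
      simp only [endCount]
      rw [Finset.sum_comm, Finset.card_eq_sum_ones, Finset.mul_sum]
      refine Finset.sum_congr rfl fun e he => ?_
      simp [Finset.sum_add_distrib, hW e he]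
    rw [h2, Finset.sum_const, smul_eq_mul] at h1
    omega
  let L : (C → ℤ) →ₗ[ℤ] (W → ℤ) :=
    { toFun := fun g v => ∑ e : C, ((if (ends e).2 = v.1 then g e else 0) - (if (ends e).1 = v.1 then g e else 0))
      map_add' := fun g g' => by
        funext v
        simp only [Pi.add_apply, ← Finset.sum_add_distrib]
        exact Finset.sum_congr rfl fun e _ => by split_ifs <;> ring
      map_smul' := fun c g => by
        funext v
        simp only [Pi.smul_apply, smul_eq_mul, RingHom.id_apply, Finset.mul_sum]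
        exact Finset.sum_congr rfl fun e _ => by split_ifs <;> ring }
  have hker : LinearMap.ker L ≠ ⊥ := by
    intro hbot
    obtain ⟨e₀, he₀⟩ := hne
    let w₀ : W := ⟨(ends e₀).1, (hW e₀ he₀).1⟩
    have hsum : ∀ g, ∑ v, L g v = 0 := fun g => by
      simp only [L, LinearMap.coe_mk, AddHom.coe_mk]
      rw [Finset.sum_comm]
      refine Finset.sum_eq_zero fun e _ => ?_
      rw [Finset.sum_sub_distrib, Finset.univ_eq_attach,
        Finset.sum_attach W (fun v => if (ends e).2 = v then g e else 0),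
        Finset.sum_attach W (fun v => if (ends e).1 = v then g e else 0)]
      simp [hW e.1 e.2]
    let del : (W → ℤ) →ₗ[ℤ] ({v : W // v ≠ w₀} → ℤ) := LinearMap.funLeft ℤ ℤ Subtype.val
    have hinj : Function.Injective (del.comp L) := by
      rw [← LinearMap.ker_eq_bot, eq_bot_iff, ← hbot]
      intro g hg
      rw [LinearMap.mem_ker] at hg ⊢
      have h0 : ∀ v, v ≠ w₀ → L g v = 0 := fun v hv => congrFun hg ⟨v, hv⟩
      funext v
      by_cases hv : v = w₀
      · subst hv
        have := hsum g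
        rwa [Finset.sum_eq_single w₀ (fun v _ hv => h0 v hv) (by simp)] at this
      · exact h0 v hv
    have := LinearMap.finrank_le_finrank_of_injective hinj
    simp [Module.finrank_pi, Fintype.card_subtype_compl] at this
    have hWpos : 0 < W.card := Finset.card_pos.2 ⟨_, (hW e₀ he₀).1⟩
    omega
  obtain ⟨g, hg, hg0⟩ := (Submodule.ne_bot_iff _).1 hker
  refine ⟨fun e => if h : e ∈ C then g ⟨e, h⟩ else 0, fun v => ?_, fun e he => dif_neg he, fun h => hg0 ?_⟩
  · have hsum : boundary ends (fun e => if h : e ∈ C then g ⟨e, h⟩ else 0) v =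
        ∑ e : C, ((if (ends e).2 = v then g e else 0) - (if (ends e).1 = v then g e else 0)) := by
      rw [boundary, ← Finset.sum_subset (Finset.subset_univ C) (fun e _ he => by simp [he]),
        ← Finset.sum_coe_sort C]
      exact Finset.sum_congr rfl fun e _ => by simp
    by_cases hv : v ∈ W
    · rw [hsum]; exact congrFun hg ⟨v, hv⟩
    · rw [hsum]
      refine Finset.sum_eq_zero fun e _ => ?_
      rw [if_neg (fun h : (ends e.1).2 = v => hv (h ▸ (hW e.1 e.2).2)),
        if_neg (fun h : (ends e.1).1 = v => hv (h ▸ (hW e.1 e.2).1))]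
      rfl
  · funext e
    have := congrFun h e.1
    simpa [e.2] using this

lemma exists_maximal {F : Finset E} (hF : Acyclic ends F) :
    ∃ T, F ⊆ T ∧ Acyclic ends T ∧ ∀ e ∉ T, ∃ C ⊆ insert e T, IsCircuit ends C := by
  classical
  obtain ⟨T, hT, hmax⟩ := Finset.exists_max_image
    (univ.filter fun T : Finset E => F ⊆ T ∧ Acyclic ends T) Finset.card ⟨F, by simp [hF]⟩
  simp only [mem_filter, mem_univ, true_and] at hT hmax
  refine ⟨T, hT.1, hT.2, fun e he => ?_⟩
  by_contra h
  push Not at h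
  have := hmax (insert e T) ⟨hT.1.trans (Finset.subset_insert _ _), h⟩
  rw [Finset.card_insert_of_notMem he] at this
  omega

/-- A vector orthogonal to a cycle on every circuit is a coboundary. -/
lemma exists_potential (c : E → ℤ)
    (h : ∀ C, IsCircuit ends C → ∀ γ : E → ℤ, (∀ v, boundary ends γ v = 0) → (∀ e ∉ C, γ e = 0) →
      ∑ e, γ e * c e = 0) :
    ∃ φ : V → ℤ, ∀ e, φ (ends e).2 - φ (ends e).1 = c e := by
  obtain ⟨T, -, hT, hmax⟩ := exists_maximal ends (F := ∅) (fun C hC hC' => by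
    obtain ⟨hne, -, -⟩ := hC'; exact hne.ne_empty (Finset.subset_empty.1 hC))
  obtain ⟨φ, hφ⟩ := hT.solve ends c
  refine ⟨φ, fun e => ?_⟩
  by_cases he : e ∈ T
  · exact hφ e he
  obtain ⟨C, hCT, hC⟩ := hmax e he
  obtain ⟨γ, hγ, hsupp, hne⟩ := exists_cycle ends hC
  have hγe : γ e ≠ 0 := fun h0 => hne (hT.cycle_eq_zero ends hγ fun x hx => by
    by_cases hxC : x ∈ C
    · rcases Finset.mem_insert.1 (hCT hxC) with rfl | h
      · exact h0
      · exact absurd h hx
    · exact hsupp x hxC)
  have h1 : ∑ x, γ x * (φ (ends x).2 - φ (ends x).1 - c x) = 0 := by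
    rw [Finset.sum_congr rfl (fun x _ => mul_sub (γ x) (φ (ends x).2 - φ (ends x).1) (c x)), Finset.sum_sub_distrib,
      h C hC γ hγ hsupp, cycle_orth ends hγ φ, sub_zero]
  rw [Finset.sum_eq_single e] at h1
  · exact sub_eq_zero.1 ((mul_eq_zero.1 h1).resolve_left hγe)
  · intro x _ hx
    by_cases hxC : x ∈ C
    · rw [hφ x ((Finset.mem_insert.1 (hCT hxC)).resolve_left hx), sub_self, mul_zero]
    · rw [hsupp x hxC, zero_mul]
  · simp

lemma exists_prime_dvd_all {C : Finset E} {l : E → ℕ} (h : C.gcd l ≠ 1) :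
    ∃ p, p.Prime ∧ ∀ e ∈ C, p ∣ l e := by
  obtain ⟨p, hp, hd⟩ := Nat.exists_prime_and_dvd h
  exact ⟨p, hp, fun e he => hd.trans (Finset.gcd_dvd he)⟩

/-- Every edge vector is a coboundary modulo the labels iff the graph is circuit-coprime. -/
lemma coprime_iff (l : E → ℕ) (hl : ∀ e, 0 < l e) :
    IsCircuitCoprime ends l ↔
      ∀ c : E → ℤ, ∃ φ : V → ℤ, ∀ e, (l e : ℤ) ∣ φ (ends e).2 - φ (ends e).1 - c e := by
  classical
  constructor
  · intro hco c
    let I : Ideal ℤ :=
      { carrier := {k | ∃ φ : V → ℤ, ∀ e, (l e : ℤ) ∣ φ (ends e).2 - φ (ends e).1 - k * c e}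
        zero_mem' := ⟨0, fun e => by simp⟩
        add_mem' := by
          rintro a b ⟨φ, hφ⟩ ⟨ψ, hψ⟩
          refine ⟨φ + ψ, fun e => ?_⟩
          obtain ⟨q, hq⟩ := hφ e; obtain ⟨r, hr⟩ := hψ e
          exact ⟨q + r, by simp only [Pi.add_apply]; linear_combination hq + hr⟩
        smul_mem' := by
          rintro a b ⟨φ, hφ⟩
          refine ⟨a • φ, fun e => ?_⟩
          obtain ⟨q, hq⟩ := hφ e
          exact ⟨a * q, by simp only [Pi.smul_apply, smul_eq_mul]; linear_combination a * hq⟩ }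
    suffices (1 : ℤ) ∈ I by
      obtain ⟨φ, hφ⟩ := this
      exact ⟨φ, fun e => by simpa using hφ e⟩
    obtain ⟨g, hg⟩ := (IsPrincipalIdealRing.principal I).principal
    rw [hg, Submodule.mem_span_singleton]
    by_contra h1
    have hne : g.natAbs ≠ 1 := fun h => h1 ⟨g, by
      rw [smul_eq_mul, ← Int.natAbs_mul_self, h]; simp⟩
    obtain ⟨p, hp, hpd⟩ := Nat.exists_prime_and_dvd hne
    let M := ∏ e ∈ univ.filter (fun e => ¬ p ∣ l e), l e
    have hF : Acyclic ends (univ.filter fun e => p ∣ l e) := fun C hC hC' => by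
      have h1 := hco C hC'
      have : p ∣ C.gcd l := Finset.dvd_gcd fun e he => (Finset.mem_filter.1 (hC he)).2
      rw [h1] at this
      exact hp.ne_one (Nat.dvd_one.1 this)
    obtain ⟨φ, hφ⟩ := hF.solve ends c
    have hM : (M : ℤ) ∈ I := by
      refine ⟨fun v => (M : ℤ) * φ v, fun e => ?_⟩
      rw [← mul_sub, ← mul_sub]
      by_cases he : p ∣ l e
      · simp [hφ e (by simp [he])]
      · exact Dvd.dvd.mul_right (Int.natCast_dvd_natCast.2 (Finset.dvd_prod_of_mem _ (by simp [he]))) _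
    rw [hg, Submodule.mem_span_singleton] at hM
    obtain ⟨k, hk⟩ := hM
    have hdvd : (p : ℤ) ∣ (M : ℤ) := hk ▸ Dvd.dvd.mul_left (Int.natCast_dvd.2 hpd) k
    have hdvd' : p ∣ M := by exact_mod_cast hdvd
    rw [hp.prime.dvd_finsetProd_iff] at hdvd'
    obtain ⟨e, he, he'⟩ := hdvd'
    exact (Finset.mem_filter.1 he).2 he'
  · intro h C hC
    by_contra hne
    obtain ⟨p, hp, hd⟩ := exists_prime_dvd_all hne
    obtain ⟨γ, hγ, hsupp, hγ0⟩ := exists_cycle ends hC
    obtain ⟨e₁, he₁⟩ := Function.ne_iff.1 hγ0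
    obtain ⟨γ', hγ', hgcd⟩ := Finset.extract_gcd γ (s := (univ : Finset E)) ⟨e₁, Finset.mem_univ _⟩
    have hd0 : Finset.univ.gcd γ ≠ 0 := fun h0 => he₁ (Finset.gcd_eq_zero_iff.1 h0 e₁ (Finset.mem_univ _))
    have hγ'c : ∀ v, boundary ends γ' v = 0 := fun v => by
      have := hγ v
      rw [show γ = Finset.univ.gcd γ • γ' from funext fun e => hγ' e (Finset.mem_univ e),
        ← DualGr.boundaryHom_apply, map_smul, DualGr.boundaryHom_apply, Pi.smul_apply, smul_eq_mul] at this
      exact (mul_eq_zero.1 this).resolve_left hd0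
    have hex : ∃ e, ¬ (p : ℤ) ∣ γ' e := by
      by_contra hall
      push Not at hall
      have h1 : (p : ℤ) ∣ Finset.univ.gcd γ' := Finset.dvd_gcd fun e _ => hall e
      rw [hgcd] at h1
      exact hp.ne_one (Nat.dvd_one.1 (by exact_mod_cast h1))
    obtain ⟨e₂, he₂⟩ := hex
    obtain ⟨φ, hφ⟩ := h (fun e => if e = e₂ then 1 else 0)
    have h3 : (p : ℤ) ∣ ∑ e, γ' e * (φ (ends e).2 - φ (ends e).1 - if e = e₂ then 1 else 0) := by
      refine Finset.dvd_sum fun e _ => ?_
      by_cases he : e ∈ C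
      · exact Dvd.dvd.mul_left ((Int.natCast_dvd_natCast.2 (hd e he)).trans (hφ e)) _
      · have h0 := hsupp e he
        rw [hγ' e (Finset.mem_univ e)] at h0
        rw [(mul_eq_zero.1 h0).resolve_left hd0, zero_mul]
        exact dvd_zero _
    rw [Finset.sum_congr rfl (fun x _ => mul_sub (γ' x) (φ (ends x).2 - φ (ends x).1) _), Finset.sum_sub_distrib,
      cycle_orth ends hγ'c φ] at h3
    simp only [mul_ite, mul_one, mul_zero,
      Finset.sum_ite_eq', Finset.mem_univ, if_true, zero_sub, dvd_neg] at h3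
    exact he₂ h3

lemma reach_of_maximal {T : Finset E}
    (hT : Acyclic ends T) (hmax : ∀ e ∉ T, ∃ C ⊆ insert e T, IsCircuit ends C) (e : E) :
    Reach ends T (ends e).1 (ends e).2 := by
  classical
  by_cases he : e ∈ T
  · exact Relation.EqvGen.rel _ _ ⟨e, he, rfl⟩
  by_contra hnr
  obtain ⟨C, hC, hC'⟩ := hmax e he
  obtain ⟨γ, hγ, hsupp, hne⟩ := exists_cycle ends hC'
  let φ : V → ℤ := fun v => if Reach ends T (ends e).1 v then 1 else 0
  have h := cycle_orth ends hγ φ
  rw [Finset.sum_eq_single e] at h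
  · have h1 : φ (ends e).1 = 1 := if_pos (Relation.EqvGen.refl _)
    have h2 : φ (ends e).2 = 0 := if_neg hnr
    rw [h1, h2] at h
    refine hne (hT.cycle_eq_zero ends hγ fun x hx => ?_)
    by_cases hxC : x ∈ C
    · rcases Finset.mem_insert.1 (hC hxC) with rfl | h'
      · simpa using h
      · exact absurd h' hx
    · exact hsupp x hxC
  · intro x _ hx
    by_cases hxC : x ∈ C
    · have hxT := (Finset.mem_insert.1 (hC hxC)).resolve_left hx
      have hiff : Reach ends T (ends e).1 (ends x).1 ↔ Reach ends T (ends e).1 (ends x).2 :=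
        ⟨fun h => Relation.EqvGen.trans _ _ _ h (Relation.EqvGen.rel _ _ ⟨x, hxT, rfl⟩),
          fun h => Relation.EqvGen.trans _ _ _ h (Relation.EqvGen.symm _ _ (Relation.EqvGen.rel _ _ ⟨x, hxT, rfl⟩))⟩
      simp only [φ, hiff, sub_self, mul_zero]
    · rw [hsupp x hxC, zero_mul]
  · simp

end Groth.Agent.LabGraphLead
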